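import Cfsg.Agent.H100.Ppd.Basic

/-!
# SM, box `Df`: the numbers of S5948 with `13 < m` in place of `2 k + 1 < m` (helper34; copy of `H100/Ppd/Defs`)
-/

set_option autoImplicit false
set_option linter.unusedSectionVars false

namespace Cfsg.Agent.SM.Om.Df

open Cfsg Cfsg.Geo Matrix
open Cfsg.Agent.H915.LD

universe u

/-- The numbers of S5948. -/
structure Num0 (q n k m : ℕ) : Prop where
  ten : 10 ≤ n
  kle : k ≤ n
  nlt : n < 2 * k
  mlt : 13 < m
  dvd : m ∣ q ^ k - 1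
  cop : ∀ i : ℕ, 1 ≤ i → i < k → Nat.Coprime m (q ^ i - 1)

namespace Num0

variable {q n k m : ℕ} (h : Num0 q n k m)
include h

theorem six_le : 6 ≤ k := by
  have h1 := h.ten
  have h2 := h.nlt
  omega

theorem m_ne : m ≠ 0 := by
  have h2 := h.mlt
  omega

theorem one_lt_q : 1 < q := by
  by_contra hq
  have h1 := h.dvd
  have h2 := h.six_le
  have h3 := h.cop 1 (le_refl 1) (by omega)
  have h4 : q = 0 ∨ q = 1 := by omega
  rcases h4 with h4 | h4
  · subst h4
    rw [pow_one, Nat.zero_sub, Nat.coprime_zero_right] at h3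
    have := h.mlt
    omega
  · subst h4
    rw [pow_one, Nat.sub_self, Nat.coprime_zero_right] at h3
    have := h.mlt
    omega

/-- primes dividing `m` have `q` of order exactly `k` -/
theorem pow_eq_one_iff {r : ℕ} (hr : r.Prime) (hrm : r ∣ m) (i : ℕ) : ((q : ZMod r)) ^ i = 1 ↔ k ∣ i := by
  have : Fact r.Prime := ⟨hr⟩
  have hq := h.one_lt_q
  have key : ∀ i, ((q : ZMod r)) ^ i = 1 ↔ r ∣ q ^ i - 1 := by
    intro i
    have h1 : 1 ≤ q ^ i := Nat.one_le_pow _ _ (by omega)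
    rw [← ZMod.natCast_eq_zero_iff, Nat.cast_sub h1, Nat.cast_pow, Nat.cast_one, sub_eq_zero]
  have hk : ((q : ZMod r)) ^ k = 1 := (key k).2 (hrm.trans h.dvd)
  constructor
  · intro hi
    have h1 : orderOf (q : ZMod r) ∣ k := orderOf_dvd_of_pow_eq_one hk
    have h2 : orderOf (q : ZMod r) ∣ i := orderOf_dvd_of_pow_eq_one hi
    have hk0 : 0 < k := by have := h.six_le; omega
    have h3 : orderOf (q : ZMod r) = k := by
      by_contra hne
      have h4 : orderOf (q : ZMod r) ≤ k := Nat.le_of_dvd hk0 h1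
      have h5 : 0 < orderOf (q : ZMod r) := Nat.pos_of_dvd_of_pos h1 hk0
      have h6 := h.cop _ h5 (lt_of_le_of_ne h4 hne)
      have h7 : r ∣ q ^ orderOf (q : ZMod r) - 1 := (key _).1 (pow_orderOf_eq_one _)
      have h8 := Nat.dvd_gcd hrm h7
      rw [Nat.Coprime] at h6
      rw [h6] at h8
      exact hr.one_lt.ne' (Nat.dvd_one.1 h8)
    rwa [h3] at h2
  · rintro ⟨j, rfl⟩
    rw [pow_mul, hk, one_pow]

theorem not_dvd_q {r : ℕ} (hr : r.Prime) (hrm : r ∣ m) : ¬ r ∣ q := by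
  intro hq
  have h1 := hrm.trans h.dvd
  have h2 : r ∣ q ^ k := dvd_pow hq (by have := h.six_le; omega)
  have h3 : 1 ≤ q ^ k := Nat.one_le_pow _ _ (by have := h.one_lt_q; omega)
  have h4 : r ∣ 1 := by
    have h5 := (Nat.dvd_sub h2 h1)
    have h6 : q ^ k - (q ^ k - 1) = 1 := by omega
    rwa [h6] at h5
  exact hr.one_lt.ne' (Nat.dvd_one.1 h4)

/-- `k ∣ r - 1` -/
theorem dvd_sub_one {r : ℕ} (hr : r.Prime) (hrm : r ∣ m) : k ∣ r - 1 := by
  have : Fact r.Prime := ⟨hr⟩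
  rw [← h.pow_eq_one_iff hr hrm]
  apply ZMod.pow_card_sub_one_eq_one
  intro h0
  rw [ZMod.natCast_eq_zero_iff] at h0
  exact h.not_dvd_q hr hrm h0

theorem succ_le {r : ℕ} (hr : r.Prime) (hrm : r ∣ m) : k + 1 ≤ r := by
  have h1 := Nat.le_of_dvd (by have := hr.one_lt; omega) (h.dvd_sub_one hr hrm)
  have := hr.one_lt
  omega

theorem le_two_mul {r : ℕ} (hr : r.Prime) (hrm : r ∣ m) : n + 3 ≤ 2 * r := by
  have h1 := h.succ_le hr hrm
  have h2 := h.nlt
  omega

theorem seven_le {r : ℕ} (hr : r.Prime) (hrm : r ∣ m) : 7 ≤ r := by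
  have h1 := h.succ_le hr hrm
  have h2 := h.six_le
  omega

end Num0

/-- a row -/
structure Row0 {n : ℕ} {F : Type u} [Field F] [Finite F] (k m : ℕ) (P : Subgroup (GL (Fin n) F)) : Prop where
  core : Core P
  num : Num0 (Nat.card F) n k m

end Cfsg.Agent.SM.Om.Df
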