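import Cfsg.Agent.H744.Ppd.G2Dim
import Cfsg.Agent.SM.Om.Df.Defs

/-!
# SM, box `Df`: copy of the rows of `H744/Ppd/G2Dim` for `Row0` (helper34)
-/

set_option autoImplicit false
set_option linter.unusedSectionVars false
set_option linter.style.haveILetI false

namespace Cfsg.Agent.H744.Ppd.G2.Om0

open Cfsg.Agent.SM.Om.Df

open Matrix (SpecialLinearGroup)
open Cfsg Cfsg.Geo
open Cfsg.Agent.H911 (lin)
open Cfsg.Agent.H911.SLTwo Cfsg.Agent.H875.Fn
open CoxeterSystem Cfsg.Agent.ChevalleyStructure.CoxeterGeom Cfsg.Agent.Tits.Roots Cfsg.Agent.Tits.Core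
  Cfsg.Agent.Tits.Exchange Cfsg.Agent.Nodes.Reps Cfsg.Agent.Nodes.BNOf Cfsg.Agent.Nodes.StabComb
  Cfsg.Agent.Nodes.Bruhat Cfsg.Agent.Nodes.OppDec Cfsg.Agent.Nodes.LeviDec Cfsg.Agent.KFacts.RgdOpp
  Cfsg.Agent.Omega.CR Cfsg.Agent.Omega.FOne.Lift.Sd Cfsg.Agent.H905.Md Cfsg.Agent.H650.Ppd
open Cfsg.Lie Cfsg.Agent.ChevalleyStructure Cfsg.Agent.ChevalleyStructure.CoxeterGeomTypes
  Cfsg.Agent.Nodes.RGDChev

universe u

section row

open Cfsg.Agent.H927.G2 (GG2 fr_g2)
open Cfsg.Agent.H915.LD Cfsg.Agent.H100.Ppd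

variable {n k m : ℕ} {F : Type u} [Field F] [Finite F] {P : Subgroup (Matrix.GeneralLinearGroup (Fin n) F)}

/-- a prime divisor of `m` and of `q ^ i (q ^ j - 1) ...` -/
theorem dvd_of_prime {q n k m : ℕ} (h : Num0 q n k m) {r : ℕ} (hr : r.Prime) (hrm : r ∣ m) {j : ℕ} {Q : ℕ}
    (hQ : Q = q ^ j) (hd : r ∣ Q ^ 6 * (Q ^ 2 - 1) * (Q ^ 6 - 1)) : k ∣ 6 * j := by
  have h1 : ∀ i : ℕ, r ∣ Q ^ i - 1 → k ∣ j * i := by
    intro i hi
    rw [← h.pow_eq_one_iff hr hrm]
    have : Fact r.Prime := ⟨hr⟩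
    have hq := h.one_lt_q
    have h2 : 1 ≤ q ^ (j * i) := Nat.one_le_pow _ _ (by omega)
    rw [hQ, ← pow_mul, ← ZMod.natCast_eq_zero_iff, Nat.cast_sub h2, Nat.cast_pow, Nat.cast_one, sub_eq_zero] at hi
    exact hi
  rcases (Nat.Prime.dvd_mul hr).1 hd with h2 | h2
  · rcases (Nat.Prime.dvd_mul hr).1 h2 with h3 | h3
    · exfalso
      have h4 := hr.dvd_of_dvd_pow h3
      rw [hQ] at h4
      exact h.not_dvd_q hr hrm (hr.dvd_of_dvd_pow h4)
    · exact (h1 2 h3).trans ⟨3, by ring⟩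
  · rw [mul_comm]
    exact h1 6 h2

/-- `k ≤ 6` for `q = 2`, `|K| = 4` -/
theorem kill_four {q n k m : ℕ} (h : Num0 q n k m) (hq : q = 2) (hk : k = 12) : False := by
  subst hq
  subst hk
  have h1 := h.dvd
  have h2 := h.cop 4 (by norm_num) (by norm_num)
  have h3 := h.cop 6 (by norm_num) (by norm_num)
  have h4 : m ∣ 13 * (7 * 9 * 5) := by
    norm_num at h1 ⊢
    exact h1
  have h5 : Nat.Coprime m (7 * 9 * 5) := by
    norm_num at h2 h3
    have h6 : Nat.Coprime m 5 := Nat.Coprime.coprime_dvd_right (by norm_num) h2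
    have h7 : Nat.Coprime m (7 * 9) := h3
    exact Nat.Coprime.mul_right h7 h6
  have h6 := h5.dvd_of_dvd_mul_right h4
  have h7 := Nat.le_of_dvd (by norm_num) h6
  have h8 := h.mlt
  omega

/-- **Task 2463.** -/
theorem not_g2 (h : Row0 k m P) (hg : ∃ r, r.Prime ∧ r ∣ m ∧ r ∣ Nat.card (Soc P)) {p : ℕ} [Fact p.Prime]
    [CharP F p] {K : Type} [Field K] [Fintype K] [CharP K p] (h3 : 3 ≤ Fintype.card K)
    (e : Soc P ≃* Lie.chevG2.group K) : False := by
  have hC := h.core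
  have hn10 := h.num.ten
  obtain ⟨f⟩ := Cfsg.Agent.H48.DsChev.g2_equiv p hC h3 e
  have hfr := fr_g2 p hC f
  obtain ⟨aK, -, haK⟩ := FiniteField.card K p
  have hcK : Nat.card K = p ^ (aK : ℕ) := by rw [Nat.card_eq_fintype_card, haK]
  obtain ⟨j, hj1, hj⟩ := card_pow_eq p aK.ne_zero (fun x => pow_eq_of_no_subfield hC.absIrred hC.no_subfield p aK (fun g hg => by
    rw [← hcK]; exact hfr g hg) x)
  have hKF : Nat.card K = Nat.card F ^ j := by rw [hcK, hj]
  have hne : Nonempty (Fin n) := hC.nonempty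
  have h2 : 2 ≤ Fintype.card (Fin n) := by rw [Fintype.card_fin]; omega
  have hφ : (P.subtype.comp f.symm.toMonoidHom).range = P := by
    rw [MonoidHom.range_comp, MonoidHom.range_eq_top.2 f.symm.surjective, ← MonoidHom.range_eq_map,
      Subgroup.range_subtype]
  have h4 := ge_pow p hφ hC.absIrred h2 hKF
  rw [Fintype.card_fin] at h4
  obtain ⟨r, hr, hrm, hrd⟩ := hg
  rw [Nat.card_congr e.toEquiv, Cfsg.Agent.S1059.result rfl, ← Nat.card_eq_fintype_card] at hrd
  have hk := dvd_of_prime h.num hr hrm hKF hrd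
  have hk' := Nat.le_of_dvd (by omega) hk
  have hkn := h.num.nlt
  have hj3 : j < 3 := by
    by_contra hcon
    have h5 : ∀ j : ℕ, 3 ≤ j → 2 * j + 1 ≤ 2 ^ j := by
      intro j hj
      induction j, hj using Nat.le_induction with
      | base => norm_num
      | succ j hj ih => rw [pow_succ]; omega
    have h6 := h5 j (by omega)
    omega
  have hj2 : j = 1 ∨ j = 2 := by omega
  rcases hj2 with rfl | rfl
  · obtain ⟨-, -, -, -, h5⟩ := Cfsg.Agent.H927.G2.core_g2 p hC (by rw [Nat.card_eq_fintype_card]; exact h3) e (by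
      rw [Fintype.card_fin]; omega)
    rw [Fintype.card_fin] at h5
    omega
  · have hq := h.num.one_lt_q
    rcases (show Nat.card F = 2 ∨ 3 ≤ Nat.card F by omega) with h5 | h5
    · refine kill_four h.num h5 ?_
      obtain ⟨x, hx⟩ := hk
      have hx1 : x = 1 := by
        rcases Nat.eq_zero_or_pos x with h6 | h6
        · subst h6; omega
        · by_contra hne
          have h7 : k * 2 ≤ k * x := Nat.mul_le_mul_left k (by omega)
          omega
      subst hx1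
      omega
    · have h6 := ge_24 p hφ hC.absIrred h2 h5 hKF
      rw [Fintype.card_fin] at h6
      omega

end row

end Cfsg.Agent.H744.Ppd.G2.Om0
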