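import Cfsg.Agent.H744.Ppd.D4Dim
import Cfsg.Agent.SM.Om.Df.Defs
import Cfsg.Agent.SM.Om.Df.G2

/-!
# SM, box `Df`: copy of the rows of `H744/Ppd/D4Dim` for `Row0` (helper34)
-/

set_option autoImplicit false
set_option linter.unusedSectionVars false
set_option linter.style.haveILetI false

namespace Cfsg.Agent.H744.Ppd.D4.Om0

open Cfsg.Agent.SM.Om.Df

open Matrix (SpecialLinearGroup)
open Cfsg Cfsg.Geo
open Cfsg.Agent.H911 (lin)
open Cfsg.Agent.H911.SLTwo Cfsg.Agent.H875.Fn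
open CoxeterSystem Cfsg.Agent.ChevalleyStructure.CoxeterGeom Cfsg.Agent.Tits.Roots Cfsg.Agent.Tits.Core
  Cfsg.Agent.Tits.Exchange Cfsg.Agent.Nodes.Reps Cfsg.Agent.Nodes.BNOf Cfsg.Agent.Nodes.StabComb
  Cfsg.Agent.Nodes.Bruhat Cfsg.Agent.Nodes.OppDec Cfsg.Agent.Nodes.LeviDec Cfsg.Agent.KFacts.RgdOpp
  Cfsg.Agent.Omega.CR Cfsg.Agent.Omega.FOne.Lift.Sd Cfsg.Agent.H905.Md Cfsg.Agent.H650.Ppd
open Cfsg.Lie Cfsg.Agent.ChevalleyStructure Cfsg.Agent.ChevalleyStructure.CoxeterGeomTypes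
open Cfsg.Agent.Nodes.RGDTwD4 (isCartan)
open Cfsg.Agent.Nodes.RGDFoldSL (Fx mem_Fx)

universe u

section row

open Cfsg.Agent.H915.LD Cfsg.Agent.H100.Ppd

variable {n k m : ℕ} {F : Type u} [Field F] [Finite F] {P : Subgroup (Matrix.GeneralLinearGroup (Fin n) F)}

/-- `k ∣ 4 j` -/
theorem dvd_of_prime {q n k m : ℕ} (h : Num0 q n k m) {r : ℕ} (hr : r.Prime) (hrm : r ∣ m) {j Q : ℕ}
    (hQ : q ^ j = Q ^ 3) (hd : r ∣ Q ^ 12 * (Q ^ 2 - 1) * (Q ^ 6 - 1) * (Q ^ 8 + Q ^ 4 + 1)) : k ∣ 4 * j := by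
  have : Fact r.Prime := ⟨hr⟩
  rw [← h.pow_eq_one_iff hr hrm]
  have hq := h.one_lt_q
  have hrQ : ¬ r ∣ Q := fun h1 => by
    have h2 : r ∣ q ^ j := by rw [hQ]; exact dvd_pow h1 (by norm_num)
    exact h.not_dvd_q hr hrm (hr.dvd_of_dvd_pow h2)
  have hQ0 : 0 < Q := Nat.pos_of_ne_zero fun h0 => hrQ (h0 ▸ dvd_zero r)
  have hmain : (Q : ZMod r) ^ 12 = 1 := by
    have key : ∀ i : ℕ, r ∣ Q ^ i - 1 → (Q : ZMod r) ^ i = 1 := by
      intro i hi
      have h2 : 1 ≤ Q ^ i := Nat.one_le_pow _ _ hQ0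
      rwa [← ZMod.natCast_eq_zero_iff, Nat.cast_sub h2, Nat.cast_pow, Nat.cast_one, sub_eq_zero] at hi
    rcases (Nat.Prime.dvd_mul hr).1 hd with h2 | h2
    · rcases (Nat.Prime.dvd_mul hr).1 h2 with h3 | h3
      · rcases (Nat.Prime.dvd_mul hr).1 h3 with h4 | h4
        · exact absurd (hr.dvd_of_dvd_pow h4) hrQ
        · have := key 2 h4
          rw [show 12 = 2 * 6 from rfl, pow_mul, this, one_pow]
      · have := key 6 h3
        rw [show 12 = 6 * 2 from rfl, pow_mul, this, one_pow]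
    · rw [← ZMod.natCast_eq_zero_iff] at h2
      push_cast at h2
      linear_combination ((Q : ZMod r) ^ 4 - 1) * h2
  have h3 : (q : ZMod r) ^ (4 * j) = (Q : ZMod r) ^ 12 := by
    rw [mul_comm 4 j, pow_mul]
    have h4 : ((q : ZMod r)) ^ j = (Q : ZMod r) ^ 3 := by
      rw [← Nat.cast_pow, hQ, Nat.cast_pow]
    rw [h4, ← pow_mul]
  rw [h3, hmain]

/-- `q = 2`, `k = 6` -/
theorem kill_six {n m : ℕ} (h : Num0 2 n 6 m) : False := by
  have h1 := h.dvd
  have h2 := h.cop 2 (by norm_num) (by norm_num)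
  have h3 := h.cop 3 (by norm_num) (by norm_num)
  have h4 : m ∣ 3 * (3 * 7) := by
    norm_num at h1 ⊢
    exact h1
  have h5 : Nat.Coprime m 3 := by norm_num at h2; exact h2
  have h6 : Nat.Coprime m 7 := by norm_num at h3; exact h3
  have h7 := (Nat.Coprime.mul_right h5 (Nat.Coprime.mul_right h5 h6)).eq_one_of_dvd h4
  have h8 := h.mlt
  omega

/-- **Task 2465.** -/
theorem not_3d4 (h : Row0 k m P) (hg : ∃ r, r.Prime ∧ r ∣ m ∧ r ∣ Nat.card (Soc P)) {p : ℕ} [hp : Fact p.Prime]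
    [CharP F p] {K : Type} [Field K] [Fintype K] [CharP K p] {q₀ : ℕ} (hq : IsPrimePow q₀)
    (hK : Fintype.card K = q₀ ^ 3) (e : Soc P ≃* Lie.twistedD4 K q₀) : False := by
  have hC := h.core
  have hn10 := h.num.ten
  have hnlt := h.num.nlt
  obtain ⟨f⟩ := Cfsg.Agent.H48.DsChev.d4_equiv hC hq hK e
  obtain ⟨φ, hφ⟩ := D4Fixed.exists_frob hq hK
  have hq1 : 1 < q₀ := hq.one_lt
  obtain ⟨aK, -, haK⟩ := FiniteField.card K p
  have hne : Nonempty (Fin n) := hC.nonempty
  have h2 : 2 ≤ Fintype.card (Fin n) := by rw [Fintype.card_fin]; omega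
  have hθ : (P.subtype.comp f.symm.toMonoidHom).range = P := by
    rw [MonoidHom.range_comp, MonoidHom.range_eq_top.2 f.symm.surjective, ← MonoidHom.range_eq_map,
      Subgroup.range_subtype]
  have : Finite CoxeterMatrix.G₂.Group := Cfsg.Agent.H249.PPTwD4.finiteW CoxeterMatrix.G₂.toCoxeterSystem
  obtain ⟨j, hj1, hj⟩ := card_pow_eq p aK.ne_zero (fun x => pow_eq_of_no_subfield hC.absIrred hC.no_subfield p aK
    (fun g hg => trace_pow (Nodes.RGDTwD4.rgd CoxeterMatrix.G₂.toCoxeterSystem hK hφ p) (GG4 hK hφ)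
      Cfsg.Agent.H249.PPTwD4.T_comm hθ hC.absIrred (fun t ht => by rw [← haK]; exact T_pow t ht) hg) x)
  have hjq : Nat.card F ^ j = q₀ ^ 3 := by rw [hj, ← haK, hK]
  obtain ⟨r, hr, hrm, hrd⟩ := hg
  rw [Nat.card_congr e.toEquiv, Cfsg.Agent.S1067.result hq hK] at hrd
  have hk := dvd_of_prime h.num hr hrm hjq hrd
  have hk' := Nat.le_of_dvd (by omega) hk
  obtain ⟨a, ha0, ha⟩ : ∃ a : ℕ, a ≠ 0 ∧ Nat.card F = p ^ a := by
    have := Fintype.ofFinite F
    obtain ⟨a, -, ha⟩ := FiniteField.card F p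
    exact ⟨a, a.ne_zero, by rw [Nat.card_eq_fintype_card, ha]⟩
  obtain ⟨g, -, hgq⟩ := (Nat.dvd_prime_pow hp.out).1 (show q₀ ∣ p ^ (aK : ℕ) by
    rw [← haK, hK]; exact dvd_pow_self q₀ (by norm_num))
  have hag : a * j = 3 * g := by
    have h3 : p ^ (a * j) = p ^ (3 * g) := by
      rw [pow_mul, ← ha, hjq, hgq, ← pow_mul, mul_comm]
    exact Nat.pow_right_injective hp.out.two_le h3
  have hnode := exists_node p hK hφ hθ hC.absIrred h2
  by_cases h3 : 3 ∣ j
  · obtain ⟨j', rfl⟩ := h3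
    have hj' : 1 ≤ j' := by omega
    have hg' : g = a * j' := by
      have : a * (3 * j') = 3 * (a * j') := by ring
      omega
    rcases hnode with h1 | ⟨h1, h0⟩
    · have h4 := short_ge p hK hφ hθ hC.absIrred h1 ha (f := a * (3 * j')) (by rw [hag, hgq, ← pow_mul, mul_comm])
        (s := 3 * j') (by rw [Nat.gcd_eq_left (Dvd.intro (3 * j') rfl), mul_comm])
      rw [Fintype.card_fin, pow_mul] at h4
      have h5 := pow86 j' hj'
      norm_num at h4
      omega
    · obtain ⟨h4, h5⟩ := long_ge' p hK hφ hθ hC.absIrred hq1 h1 h0 ha0 (j := j') (by omega) ha (by rw [hgq, hg'])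
      rw [Fintype.card_fin] at h4 h5
      rcases hj'.eq_or_lt with h6 | h6
      · rcases (show Nat.card F = 2 ∨ 3 ≤ Nat.card F by have := h.num.one_lt_q; omega) with h7 | h7
        · rw [← h6] at hk hk'
          have h8 : k = 6 ∨ k = 12 := by
            have h9 := h.num.six_le
            obtain ⟨x, hx⟩ := hk
            have hx2 : x = 1 ∨ x = 2 := by
              rcases Nat.lt_or_ge x 3 with h10 | h10
              · interval_cases x
                · omega
                · exact Or.inl rfl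
                · exact Or.inr rfl
              · have h11 : k * 3 ≤ k * x := Nat.mul_le_mul_left k h10
                omega
            rcases hx2 with rfl | rfl
            · right; omega
            · left; omega
          rcases h8 with rfl | h8
          · have h9 := h.num
            rw [h7] at h9
            exact kill_six h9
          · exact G2.Om0.kill_four h.num h7 h8
        · have h8 := h5 h6.symm h7
          omega
      · have h7 := pow8 j' h6
        omega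
  · have h4 : 3 ∣ a := by
      have h5 : 3 ∣ a * j := ⟨g, hag⟩
      exact (Nat.prime_three.dvd_mul.1 h5).resolve_right h3
    obtain ⟨a', rfl⟩ := h4
    have hg' : g = a' * j := by
      have : 3 * a' * j = 3 * (a' * j) := by ring
      omega
    have hj2 : 2 ≤ j := by
      by_contra hcon
      have : j = 1 := by omega
      subst this
      omega
    have h5 : 6 * 2 ^ j ≤ Fintype.card (Fin n) + 6 := by
      rcases hnode with h1 | ⟨-, h0⟩
      · exact short_ge p hK hφ hθ hC.absIrred h1 ha (f := 3 * a' * j) (by rw [hag, hgq, ← pow_mul, mul_comm])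
          (s := j) (by rw [Nat.gcd_eq_left (Dvd.intro j rfl), mul_comm])
      · refine long_ge p hK hφ hθ hC.absIrred hq1 h0 ha (f := a' * j) (by rw [hgq, hg']) (s := j) ?_
        have h6 : Nat.gcd (3 * a') (a' * j) = a' := by
          rw [mul_comm 3 a', Nat.gcd_mul_left, show Nat.gcd 3 j = 1 from (Nat.Prime.coprime_iff_not_dvd Nat.prime_three).2 h3, mul_one]
        rw [h6, mul_comm]
    rw [Fintype.card_fin] at h5
    have h6 := pow2 j hj2
    omega

end row

end Cfsg.Agent.H744.Ppd.D4.Om0
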