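import Cfsg.Agent.H650.Ppd.Psl
import Cfsg.Agent.SM.Om.Df.Defs

/-!
# SM, box `Df`: copy of the rows of `H650/Ppd/Psl` for `Row0` (helper34)
-/

set_option autoImplicit false
set_option linter.unusedSectionVars false
set_option linter.style.haveILetI false

namespace Cfsg.Agent.H650.Ppd.Om0

open Cfsg.Agent.SM.Om.Df

open Matrix CoxeterSystem Cfsg.Agent.ChevalleyStructure.CoxeterGeom Cfsg.Agent.Tits.Roots Cfsg.Agent.Tits.Core
  Cfsg.Agent.Tits.Exchange Cfsg.Agent.Nodes.Reps Cfsg.Agent.Nodes.BNOf Cfsg.Agent.Nodes.StabComb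
  Cfsg.Agent.Nodes.Bruhat Cfsg.Agent.Nodes.OppDec Cfsg.Agent.Nodes.LeviDec Cfsg.Agent.KFacts.RgdOpp
  Cfsg.Agent.Omega.CR Cfsg.Agent.Omega.FOne.Lift.Sd Cfsg.Agent.H905.Md Cfsg.Agent.Nodes.RootsA
open Cfsg Cfsg.Geo
open Cfsg.Agent.H911 (lin)
open Cfsg.Agent.H911.Ad (bk bk_U bk_Lo bk_hh_mem)
open Cfsg.Agent.LieRecognition.BNCox (cA)
open Cfsg.Agent.Nodes.RGDTypeA (X_sr X_neg_sr mem_XX)
open Cfsg.Agent.H915.LD (Core Soc)
open Cfsg.Agent.H100.Ppd (Nat')

universe u v

section order

variable {n : ℕ} {F : Type u} [Field F] [Finite F] {k m : ℕ} {P : Subgroup (GL (Fin n) F)}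

theorem le_of_dvd {q : ℕ} (h : Num0 q n k m) {r : ℕ} (hr : r.Prime) (hrm : r ∣ m) {Q j e : ℕ} (hQ : q ^ j = Q)
    (hj : 1 ≤ j) (he : 1 ≤ e) (hd : r ∣ Q ^ e - 1) : k ≤ j * e := by
  have : Fact r.Prime := ⟨hr⟩
  refine Nat.le_of_dvd (Nat.mul_pos hj he) ?_
  rw [← h.pow_eq_one_iff hr hrm]
  have hq := h.one_lt_q
  have h1 : 1 ≤ Q ^ e := Nat.one_le_pow _ _ (by rw [← hQ]; exact Nat.pow_pos (by omega))
  rw [← ZMod.natCast_eq_zero_iff, Nat.cast_sub h1, Nat.cast_pow, Nat.cast_one, sub_eq_zero] at hd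
  rw [← hd, ← hQ, Nat.cast_pow, pow_mul]

/-- a prime divisor of `m` dividing `|SL_N(K)|` -/
theorem le_of_dvd_sl (h : Row0 k m P) {K : Type*} [Field K] [Fintype K] {j N : ℕ} (hj : 1 ≤ j)
    (hjK : Nat.card F ^ j = Nat.card K) (hN : 2 ≤ N) {r : ℕ} (hr : r.Prime) (hrm : r ∣ m)
    (hd : r ∣ Nat.card (SpecialLinearGroup (Fin N) K)) : k ≤ j * N := by
  rw [H953.card_SL N (by omega), hr.dvd_mul] at hd
  rcases hd with hd | hd
  · exfalso
    have h1 := hr.dvd_of_dvd_pow hd
    rw [← Nat.card_eq_fintype_card, ← hjK] at h1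
    exact h.num.not_dvd_q hr hrm (hr.dvd_of_dvd_pow h1)
  · obtain ⟨e, he, hde⟩ := (Prime.dvd_finsetProd_iff hr.prime _).1 hd
    rw [Finset.mem_Icc] at he
    have h1 := le_of_dvd h.num hr hrm (hjK.trans Nat.card_eq_fintype_card) hj (by omega) hde
    exact h1.trans (Nat.mul_le_mul_left _ he.2)

end order

section row

variable {n : ℕ} {F : Type u} [Field F] [Finite F] {k m : ℕ} {P : Subgroup (GL (Fin n) F)}
  {K : Type} [Field K] [Fintype K] (p : ℕ) [hp : Fact p.Prime] [hFp : CharP F p] [hKp : CharP K p]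
include hp hFp hKp

/-- **`PSL_N(K)` in its own characteristic.** -/
theorem nat_psl (h : Row0 k m P) (hg : ∃ r, r.Prime ∧ r ∣ m ∧ r ∣ Nat.card (Soc P)) {N : ℕ} (hN : 2 ≤ N)
    (h4 : N = 2 → 4 ≤ Fintype.card K) (e : Soc P ≃* Matrix.ProjectiveSpecialLinearGroup (Fin N) K) : Nat' P := by
  have hC := h.core
  have hn := h.num
  obtain ⟨l, rfl⟩ : ∃ l, N = l + 1 := ⟨N - 1, by omega⟩
  have hK4 : l = 1 → 4 ≤ Nat.card K := fun hl => by
    rw [Nat.card_eq_fintype_card]; exact h4 (by omega)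
  obtain ⟨j, hj, hjK⟩ := psl_card p hC.absIrred hC.perfect (by omega) hK4 e hC.no_subfield
  have hk : k ≤ j * (l + 1) := by
    obtain ⟨r, hr, hrm, hrT⟩ := hg
    refine le_of_dvd_sl h hj hjK hN hr hrm (hrT.trans ?_)
    rw [Nat.card_congr e.toEquiv]
    exact Subgroup.card_quotient_dvd_card _
  have hn10 := hn.ten
  have hnlt : n < 2 * (j * (l + 1)) := lt_of_lt_of_le hn.nlt (Nat.mul_le_mul_left _ hk)
  rcases Nat.lt_or_ge l 2 with hl | hl
  · -- `N = 2`
    exfalso
    obtain rfl : l = 1 := by omega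
    have := Fintype.ofFinite F
    obtain ⟨s, d, hs0, hs, hd2, hd⟩ := H875.Psl2.exists_pow p hC e
    rw [Fintype.card_fin] at hd
    have hsj : s = j := by
      rw [Nat.card_eq_fintype_card, Nat.card_eq_fintype_card, hs] at hjK
      exact (Nat.pow_right_injective (Fintype.one_lt_card (α := F)) hjK).symm
    subst hsj
    have h5 : 2 ^ s ≤ d ^ s := Nat.pow_le_pow_left hd2 s
    rcases Nat.lt_or_ge s 4 with h6 | h6
    · interval_cases s
      · omega
      · omega
      · rcases Nat.lt_or_ge d 3 with h7 | h7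
        · obtain rfl : d = 2 := by omega
          omega
        · have := Nat.pow_le_pow_left h7 3
          omega
    · have := four_lt_two_pow h6
      omega
  · have hjK' : Nat.card K = Nat.card F ^ j := hjK.symm
    rcases Nat.lt_or_ge j 2 with hj1 | hj2
    · obtain rfl : j = 1 := by omega
      have hl5 : 5 ≤ l := by omega
      have h5 : n < (l + 1).choose 2 := by
        have h6 : (l + 1).choose 2 * 2 = (l + 1) * l := by
          rw [Nat.choose_two_right, Nat.add_sub_cancel, Nat.div_mul_cancel]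
          rw [mul_comm]
          exact (Nat.even_mul_succ_self l).two_dvd
        nlinarith
      have h6 := psl_dim p hC.absIrred hC.perfect (by omega) hK4 e hl (Or.inl (by rwa [Fintype.card_fin]))
      rw [Fintype.card_fin] at h6
      obtain ⟨-, h7⟩ := psl_eq p hC.absIrred hC.perfect (by omega) hK4 e hC.no_subfield h6
      exact Or.inl h7.ge
    · exfalso
      have h5 := card_ge_A p hC hl e hjK'
      rw [Fintype.card_fin] at h5
      rcases Nat.lt_or_ge l 3 with hl3 | hl3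
      · obtain rfl : l = 2 := by omega
        have h6 : (2 + 1).choose 2 = 3 := rfl
        rw [h6] at h5
        rcases Nat.lt_or_ge j 3 with hj3 | hj3
        · obtain rfl : j = 2 := by omega
          have h7 := H887.DS.dim3 p hC e (by rw [Fintype.card_fin]; omega)
          rw [Fintype.card_fin] at h7
          have h8 := card_eq_of_ten p hC e (by rw [Fintype.card_fin]; omega)
          rw [hjK'] at h8
          have h9 : 1 < Nat.card F := Finite.one_lt_card
          nlinarith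
        · have := two_pow_bound' hj3
          omega
      · have := arith_A (N := l + 1) (j := j) (by omega) hj2
        omega

end row

end Cfsg.Agent.H650.Ppd.Om0
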