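import Cfsg.Agent.H948.Ppd.Podd
import Cfsg.Agent.SM.Om.Df.Defs
import Cfsg.Agent.SM.Om.Df.Psl

/-!
# SM, box `Df`: copy of the rows of `H948/Ppd/Podd` for `Row0` (helper34)
-/

set_option autoImplicit false
set_option linter.unusedSectionVars false
set_option linter.style.haveILetI false

namespace Cfsg.Agent.H948.Ppd.Om0

open Cfsg.Agent.SM.Om.Df

open CoxeterSystem Cfsg.Agent.ChevalleyStructure.CoxeterGeom Cfsg.Agent.Tits.Roots Cfsg.Agent.Tits.Core
  Cfsg.Agent.Nodes.Reps Cfsg.Agent.Nodes.BNOf Cfsg.Agent.Nodes.Bruhat Cfsg.Agent.Nodes.RGDLib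
open Cfsg.Agent.Nodes Cfsg.Agent.Nodes.WittRoot Cfsg.Agent.Nodes.WittRGD Cfsg.Agent.Nodes.WittAll Cfsg.Agent.Nodes.WittInst
open Cfsg.Agent.Nodes.TypeC (isCartan)
open Cfsg.Agent.TitsThree.Siegel Cfsg.Agent.TitsThree.SiegelGen Cfsg.Agent.TitsThree.WittFrame Cfsg.Agent.TitsThree.FrameCN
  Cfsg.Agent.TitsThree.WBridge Cfsg.Agent.TitsThree.KSideO Cfsg.Agent.TitsThree Cfsg.Agent.TitsThree.StdData
open Cfsg.Agent.LieClassical Cfsg.Agent.LieClassical.OrthCore Cfsg.Agent.LieClassical.OrthTrans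
open Cfsg.Agent.LieClassical.OrthSimple Cfsg.Agent.LieClassical.OrthFinite Cfsg.Agent.LieClassical.OrthForms
open Cfsg.Agent.H915.LD Cfsg.Agent.H911 Cfsg.Agent.H905.Md Cfsg.Agent.H925.Nat Cfsg.Agent.Nodes.RGDLift
open Cfsg.Agent.H156.Ppd (Cov lrep exists_cov)
open Cfsg.Agent.Omega.CR Cfsg.Agent.Omega.FOne.Lift.Sd
open Cfsg.Agent.H100.Ppd (Nat')
open Cfsg Cfsg.Geo QuadraticMap
open scoped MatrixGroups Matrix

universe u v w

section order

variable {n : ℕ} {F : Type u} [Field F] [Finite F] {k m : ℕ} {P : Subgroup (GL (Fin n) F)}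

theorem le_odd (h : Row0 k m P) {K : Type*} [Field K] [Fintype K] {j l : ℕ} (hj : 1 ≤ j)
    (hjK : Nat.card F ^ j = Nat.card K) (hl : 3 ≤ l) (hodd : Odd (Fintype.card K)) {r : ℕ} (hr : r.Prime) (hrm : r ∣ m)
    (hd : r ∣ Nat.card (POmega K (quadFormOdd l K))) : k ≤ 2 * l * j := by
  have h1 := S0292.result (F := K) rfl hodd l hl
  have h2 : r ∣ Fintype.card K ^ (l ^ 2) * ∏ i ∈ Finset.range l, (Fintype.card K ^ (2 * (i + 1)) - 1) := by
    rw [← h1]
    exact hd.mul_left _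
  rcases hr.dvd_mul.1 h2 with h3 | h3
  · exfalso
    have h4 := hr.dvd_of_dvd_pow h3
    rw [← Nat.card_eq_fintype_card, ← hjK] at h4
    exact h.num.not_dvd_q hr hrm (hr.dvd_of_dvd_pow h4)
  · obtain ⟨i, hi, hd⟩ := (Prime.dvd_finsetProd_iff hr.prime _).1 h3
    rw [Finset.mem_range] at hi
    have h4 := H650.Ppd.Om0.le_of_dvd h.num hr hrm (hjK.trans Nat.card_eq_fintype_card) hj (by omega) hd
    refine h4.trans ?_
    rw [mul_comm (2 * l)]
    exact Nat.mul_le_mul_left _ (by omega)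

end order

section row

variable {n : ℕ} {F : Type u} [Field F] [Finite F] {k m : ℕ} {P : Subgroup (GL (Fin n) F)}
  {K : Type} [Field K] [Fintype K] (p : ℕ) [hp : Fact p.Prime] [hFp : CharP F p] [hKp : CharP K p]
include hp hFp hKp

/-- **`PΩ_{2l+1}(K)` in its own characteristic.** -/
theorem nat_podd (h : Row0 k m P) (hg : ∃ r, r.Prime ∧ r ∣ m ∧ r ∣ Nat.card (Soc P)) {l : ℕ} (hl : 3 ≤ l)
    (hodd : Odd (Fintype.card K)) (e : Soc P ≃* POmega K (quadFormOdd l K)) : Nat' P := by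
  have hC := h.core
  have h2 : (2 : K) ≠ 0 := by
    intro h20
    have h3 : CharP K 2 := CharTwo.of_one_ne_zero_of_two_eq_zero one_ne_zero h20
    have h4 := FiniteField.even_card_of_char_two (CharP.ringChar_of_prime_eq_zero Nat.prime_two (by exact_mod_cast h20) :
      ringChar K = 2)
    have := Nat.odd_iff.1 hodd
    omega
  have hcoe := coe_oddForm (m := l) (F := K)
  have hG : Good (oddForm l K) := by
    apply good_of_finite (nondeg_oddForm l K h2)
    rw [Module.finrank_fintype_fun_eq_card, Fintype.card_sum, Fintype.card_sum, Fintype.card_fin,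
      Fintype.card_unit]
    omega
  have hp0 : ((embOdd l K).ngt ⟨1, -1 ^ 2, rfl⟩).c ≠ 0 := by
    change (1 : K)⁻¹ * (-1 ^ 2) ≠ 0
    simp
  have e' := e
  rw [← coe_oddForm] at e'
  have hWf : Finite (CoxeterMatrix.B l).Group := TypeC.finite_W (CoxeterMatrix.B l).toCoxeterSystem
  set M := model (wodd l K) hG ⟨_, hp0⟩ with hM
  have hA : AmbT (toFrame (wodd l K)) p M.I := AmbT.of_amb (amb_O_of_two _ h2) p
  have hperf : commutator ↥M.I = ⊤ := H911.Five.commutator_top hG.E_perfect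
  obtain ⟨Y, _, _, f, φ, n₁, C⟩ := exists_covB hC hA hp0 (by omega) hperf e'
  -- the nodes
  have hNd : ∀ i, ∃ σ' : SL(2, K) →* M.I, Nd (TB M) (XB M) i σ' := by
    intro i
    by_cases hi : (i : ℕ) + 1 < l
    · exact nd_long hA.rg_le hi
    · exact nd_last_odd h2 (H48.OMult.span_odd K l) hA.rg_le hi
  have hT' : ∀ s ∈ TB M, ∀ t ∈ TB M, s * t = t * s := by
    intro s hs t ht
    exact Subtype.ext (torus_comm hA.V0 (kd_odd h2 l) (hA.iso _ s.2) (hA.iso _ t.2) hs.2 ht.2)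
  obtain ⟨hT, hpow⟩ := lift_comm_pow C hp0 hT' (N₀ := Nat.card K) fun i => by
    obtain ⟨σ', N⟩ := hNd i
    exact ⟨K, inferInstance, inferInstance, inferInstance, σ', N, fun x => by
      rw [Nat.card_eq_fintype_card]; exact FiniteField.pow_card x⟩
  -- the order of the field
  obtain ⟨a, -, ha⟩ := FiniteField.card K p
  rw [← Nat.card_eq_fintype_card] at ha
  obtain ⟨j, hj, hjK⟩ := C.exists_j hC hT (a := a) a.ne_zero (by rw [← ha]; exact hpow)
  rw [← ha] at hjK
  have hk : k ≤ 2 * l * j := by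
    obtain ⟨r, hr, hrm, hrT⟩ := hg
    exact le_odd h hj hjK hl hodd hr hrm (by rwa [← Nat.card_congr e.toEquiv])
  have hn10 := h.num.ten
  have hnlt : n < 4 * l * j := by
    have := h.num.nlt
    calc n < 2 * k := this
      _ ≤ 2 * (2 * l * j) := Nat.mul_le_mul_left _ hk
      _ = 4 * l * j := by ring
  -- the edges
  have hedge : ∀ i, i ∉ JB M p f φ → ∃ m, 2 ≤ m ∧ dB M p f φ i = m ^ j := by
    intro i hi
    obtain ⟨σ', N'⟩ := hNd i
    obtain ⟨σ, -, N⟩ := lift_nd C hp0 N'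
    exact edge_pow_B hC C hT hi N hjK.symm
  -- the nodes `≥ 1`
  have hJ : ∀ i, i ∉ JB M p f φ → (i : ℕ) = 0 := by
    intro i hi
    by_contra hi0
    have hi1 : 1 ≤ (i : ℕ) := by omega
    have hd := hedge i hi
    rcases Nat.lt_or_ge 3 l with hl4 | hl3
    · have h3 := bound_four hC C hT (by omega) hi1 hi
      rw [Fintype.card_fin] at h3
      exact arith_mid (by omega) hj hnlt hd h3
    · obtain rfl : l = 3 := by omega
      by_cases hi2 : (i : ℕ) = 1
      · have h3 := bound_all hC C hT hi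
        rw [Fintype.card_fin, hi2] at h3
        exact arith_mid (l := 3) (by omega) hj hnlt hd h3
      · have hi3 : (i : ℕ) + 1 = 3 := by omega
        obtain ⟨ε, hε, h3⟩ := bound_last hC C hT hi3 hi
        rw [Fintype.card_fin] at h3
        have hj1 := arith_last hj hnlt hd hε h3
        subst hj1
        exact H924.D5.po7_big p hC (by rw [Fintype.card_fin]; omega) (by rw [Fintype.card_fin]; omega) h2 e
  -- the first node
  have ho : (⟨0, by omega⟩ : Fin l) ∉ JB M p f φ := by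
    obtain ⟨i, hi⟩ := exists_node hC C hT
    have h3 : i = ⟨0, by omega⟩ := Fin.ext (hJ i hi)
    rwa [← h3]
  obtain ⟨ε, hε, h3⟩ := bound_first hC C hT (by omega) rfl ho
  rw [Fintype.card_fin] at h3
  obtain ⟨hj1, hd2⟩ := arith_first hl hj hnlt (hedge _ ho) hε h3
  have hspan : Submodule.span K (Set.range (mt M.I)) = ⊤ :=
    span_E hG (by rw [Fintype.card_sum, Fintype.card_sum, Fintype.card_fin, Fintype.card_unit]; omega)
  obtain ⟨τ, θ, hθ⟩ := identify_B hC hA hp0 (by omega) hspan C hT (o := ⟨0, by omega⟩) rfl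
    (fun i hi => Fin.ext (hJ i hi)) hd2
  have hcj : CjOf (omegaGL (quadFormOdd l F)) P := by
    refine cjOf_of (mem_omega_iff'' hG) (map_omega_glm τ fun v => ?_) hθ
    rw [coe_oddForm]
    exact quadFormOdd_map τ v
  have h2F : (2 : F) ≠ 0 := by
    intro h20
    apply h2
    have h4 : τ (2 : K) = 2 := map_ofNat τ 2
    rw [h20] at h4
    exact (map_eq_zero τ).1 h4
  have hnd : IsNondegenerateQuadraticForm (quadFormOdd l F) := by
    rw [← coe_oddForm]
    exact H925.isND_of_nondeg (nondeg_oddForm l F h2F)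
  obtain ⟨Q₁, hQ₁, hP, -⟩ := hcj.omega_form hnd
  exact Or.inr (Or.inr (Or.inr ⟨Q₁, hQ₁, hP.ge⟩))

end row

end Cfsg.Agent.H948.Ppd.Om0
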