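import Cfsg.Agent.H156.Ppd.PPlus
import Cfsg.Agent.SM.Om.Df.Defs

/-!
# SM, box `Df`: copy of the rows of `H156/Ppd/PPlus` for `Row0` (helper34)
-/

set_option autoImplicit false
set_option linter.unusedSectionVars false

namespace Cfsg.Agent.H156.Ppd.PPlus.Om0

open Cfsg.Agent.SM.Om.Df

open CoxeterSystem Cfsg.Agent.ChevalleyStructure.CoxeterGeom Cfsg.Agent.Tits.Roots Cfsg.Agent.Tits.Core
  Cfsg.Agent.Nodes.Reps Cfsg.Agent.Nodes.BNOf Cfsg.Agent.Nodes.Bruhat Cfsg.Agent.Nodes.RGDLib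
open QuadraticMap
open Cfsg.Agent.LieClassical Cfsg.Agent.LieClassical.OrthCore Cfsg.Agent.LieClassical.OrthTrans
open Cfsg.Agent.LieClassical.OrthSimple Cfsg.Agent.LieClassical.OrthFinite Cfsg.Agent.LieClassical.OrthForms
open Cfsg.Agent.TitsThree Cfsg.Agent.TitsThree.KSideO Cfsg.Agent.TitsThree.StdData
open Cfsg.Agent.Nodes Cfsg.Agent.Nodes.WittAll Cfsg.Agent.Nodes.WittInst Cfsg.Agent.Nodes.WittU
  Cfsg.Agent.TitsThree.Siegel Cfsg.Agent.TitsThree.SiegelGen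
  Cfsg.Agent.TitsThree.WittFrame Cfsg.Agent.TitsThree.WBridge Cfsg.Agent.TitsThree.WittWeyl
  Cfsg.Agent.TitsThree.FrameCN
open Cfsg.Agent.Nodes.WittRoot (Mono)
open Cfsg.Agent.Nodes.WittRGD (Tor)
open Cfsg.Agent.H905.Md Cfsg.Agent.H915.LD Cfsg.Agent.H925.Nat Cfsg.Agent.H100.Ppd Cfsg.Agent.H911
open Cfsg.Agent.H67.Cross
open Cfsg.Agent.KFacts.MulOdd.Inst (Lv)
open Cfsg.Agent.OddHalf.NI.Mult (up lo dg Coord)
open Cfsg Cfsg.Geo
open scoped MatrixGroups Matrix

universe u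

section arith

variable {q n k m : ℕ} (h : Num0 q n k m) {r : ℕ} (hr : r.Prime) (hrm : r ∣ m)
include h hr hrm

theorem dvd_mul_of_dvd {j e : ℕ} (hd : r ∣ (q ^ j) ^ e - 1) : k ∣ j * e := by
  rw [← h.pow_eq_one_iff hr hrm]
  have hq := h.one_lt_q
  have h1 : 1 ≤ (q ^ j) ^ e := Nat.one_le_pow _ _ (Nat.one_le_pow _ _ (by omega))
  rw [← ZMod.natCast_eq_zero_iff, Nat.cast_sub h1, Nat.cast_pow, Nat.cast_pow, Nat.cast_one, sub_eq_zero,
    ← pow_mul] at hd
  exact hd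

/-- the bound for the dimension -/
theorem plus_lt {l : ℕ} (hl : 4 ≤ l) {j : ℕ} (hj : 1 ≤ j) {N g : ℕ}
    (hcard : g * N = (q ^ j) ^ (l * (l - 1)) * ((q ^ j) ^ l - 1) * ∏ i ∈ Finset.range (l - 1), ((q ^ j) ^ (2 * (i + 1)) - 1))
    (hd : r ∣ N) : n < 4 * (l - 1) * j := by
  have hd' : r ∣ g * N := hd.mul_left g
  rw [hcard] at hd'
  have key : ∀ {e : ℕ}, 0 < e → e ≤ 2 * (l - 1) → r ∣ (q ^ j) ^ e - 1 → n < 4 * (l - 1) * j := by
    intro e he0 he hre
    have h1 := Nat.le_of_dvd (Nat.mul_pos hj he0) (dvd_mul_of_dvd h hr hrm hre)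
    have h2 := h.nlt
    have h3 : j * e ≤ j * (2 * (l - 1)) := Nat.mul_le_mul_left _ he
    calc n < 2 * k := h2
      _ ≤ 2 * (j * (2 * (l - 1))) := Nat.mul_le_mul_left _ (h1.trans h3)
      _ = 4 * (l - 1) * j := by ring
  rcases hr.dvd_mul.1 hd' with h1 | h1
  · rcases hr.dvd_mul.1 h1 with h2 | h2
    · exact absurd (hr.dvd_of_dvd_pow (hr.dvd_of_dvd_pow h2)) (h.not_dvd_q hr hrm)
    · exact key (by omega) (by omega) h2
  · rw [Prime.dvd_finsetProd_iff hr.prime] at h1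
    obtain ⟨i, hi, h2⟩ := h1
    rw [Finset.mem_range] at hi
    exact key (by omega) (by omega) h2

end arith

/-- **The row.** -/
theorem nat_pplus {F : Type u} [Field F] [Finite F] {n k m : ℕ} {P : Subgroup (GL (Fin n) F)} (h : Row0 k m P)
    (hg : ∃ r, r.Prime ∧ r ∣ m ∧ r ∣ Nat.card (Soc P)) (p : ℕ) [hp : Fact p.Prime] [CharP F p]
    {K : Type} [Field K] [Fintype K] [CharP K p] {l : ℕ} (hl : 4 ≤ l)
    (e : Soc P ≃* POmega K (quadFormPlus l K)) : Nat' P := by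
  classical
  obtain ⟨d, rfl⟩ : ∃ d, l = d + 2 := ⟨l - 2, by omega⟩
  have hC := h.core
  obtain ⟨r, hr, hrm, hrc⟩ := hg
  have hcard := S0293.result (F := K) rfl (d + 2) hl
  rw [Nat.card_congr e.toEquiv] at hrc
  have hG : Good (plusForm (d + 2) K) := by
    apply good_of_finite (nondeg_plusForm (d + 2) K)
    rw [Module.finrank_fintype_fun_eq_card, Fintype.card_sum, Fintype.card_fin]
    omega
  rw [← coe_plusForm] at e
  have hfin := hfin (K := K) d
  have hA := amb_plus (F := K) (d + 2)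
  have h0 := adm_plus (F := K) (d + 2)
  have hWf : Finite (TypeD.M d).Group := TypeD.finite_W (TypeD.M d).toCoxeterSystem
  have hR := rgd_restrict (rgdD hA h0 (TypeD.M d).toCoxeterSystem (p := p))
    (E (plusForm (d + 2) K)) (fun x _ => rgD_le _ hA x) (fun i => WittRGDD.nn_mem hA i)
  have hperf : commutator ↥(E (plusForm (d + 2) K)) = ⊤ := Five.commutator_top hG.E_perfect
  have hG1 : G1 (TypeD.M d).toCoxeterSystem (TypeD.isCartan d) (XX d K) = ⊤ := by
    have h1 := G1D_eq_top (wplus (d + 2) K) (MonoidHom.id (E (plusForm (d + 2) K))) Function.surjective_id h0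
      (TypeD.M d).toCoxeterSystem
    rw [← h1]
    congr 1
    funext x
    exact (Subgroup.map_id _).symm
  obtain ⟨Y, _, _, f, φ, n₁, C⟩ := exists_cov hC hR hG1 hperf (toPOmega_surjective hG) e
  have hpp : p.Prime := Fact.out
  have rk : ∀ i, ∀ r : ℕ, r.Prime → r ≠ p → NoCE p r ↥(Lv (XX d K) i) := fun i r hr hne => noCE hpp i hr hne
  have hT : ∀ s ∈ (TT d K).comap f, ∀ t ∈ (TT d K).comap f, s * t = t * s :=
    comap_comm C.ker C.cop C.surj hR rk C.gen TT_comm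
  obtain ⟨a, ha⟩ : ∃ a : ℕ+, Fintype.card K = p ^ (a : ℕ) := ⟨(FiniteField.card K p).choose, (FiniteField.card K p).choose_spec.2⟩
  have hpow : ∀ t ∈ (TT d K).comap f, t ^ p ^ (a : ℕ) = t :=
    comap_pow C.ker C.cop C.surj hR rk C.gen TT_comm (TT_pow fun x => by rw [← ha]; exact FiniteField.pow_card x)
  have hD := C.finrank_D hC hT
  obtain ⟨j, hj1, hj⟩ := C.exists_j hC hT a.pos.ne' hpow
  rw [← ha] at hj
  have hlt : n < 4 * (d + 1) * j := by
    rw [← hj] at hcard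
    exact plus_lt h.num hr hrm hl hj1 hcard hrc
  have hKc : Nat.card K = Nat.card F ^ j := by rw [hj, Nat.card_eq_fintype_card]
  have hIo : ∀ i, i ∉ Jx (TypeD.M d).toCoxeterSystem (TypeD.isCartan d) (fun x => Nodes.RGDLift.lft p f (XX d K x)) (lrep φ) →
      j ≤ Module.finrank F (Io (TypeD.M d).toCoxeterSystem (TypeD.isCartan d) ((TT d K).comap f)
        (fun x => Nodes.RGDLift.lft p f (XX d K x)) (lrep φ) i) + 1 := by
    intro i hi
    exact C.edge_Io hR hC hi hD (by rw [card_XX, hKc]) (ts i)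
  have hnV := C.nontriv hC
  have hdim : Module.finrank F (Fin n → F) = n := by rw [Module.finrank_fintype_fun_eq_card, Fintype.card_fin]
  by_cases hd4 : d = 2
  · exfalso
    subst hd4
    have h1 := dFour mAD4_eq C.rgd (C.hirr hC) C.gen (C.hnt hC) hD hIo (by rw [hdim]; exact hlt)
    rw [hdim] at h1
    have := h.num.ten
    omega
  · have hd3 : 3 ≤ d := by omega
    obtain ⟨hJ, hL⟩ := DSg.dAll C.rgd (C.hirr hC) hd3 C.gen (C.hnt hC) hD hIo (by rw [hdim]; exact hlt)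
    obtain ⟨σ, θ, hθ⟩ := C.ident hC (ψ := mt (E (plusForm (d + 2) K))) (o := (0 : Fin (d + 2)))
      (span_E hG (by rw [Fintype.card_sum, Fintype.card_fin]; omega))
      (natAt_D hA (by omega) rfl (TypeD.M d).toCoxeterSystem)
      (fixD (by omega) rfl (TypeD.M d).toCoxeterSystem) (surjD hA rfl) hR hJ hD hL
    obtain ⟨τ, rfl⟩ := ringEquiv_of_surj σ (identify_surj hC hθ)
    have hCj : CjOf (omegaGL (quadFormPlus (d + 2) F)) P := by
      refine cjOf_of (mem_omega_iff'' hG) (map_omega_glm τ fun v => ?_) hθ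
      rw [coe_plusForm]
      exact quadFormPlus_map τ v
    obtain ⟨Q₁, hQ₁, hP, -⟩ := hCj.omega_form (by
      rw [← coe_plusForm]
      exact H925.isND_of_nondeg (nondeg_plusForm (d + 2) F))
    exact Or.inr (Or.inr (Or.inr ⟨Q₁, hQ₁, hP.ge⟩))

end Cfsg.Agent.H156.Ppd.PPlus.Om0
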