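import Cfsg.Agent.H650.Ppd.Psp
import Cfsg.Agent.SM.Om.Df.Defs
import Cfsg.Agent.SM.Om.Df.Psl

/-!
# SM, box `Df`: copy of the rows of `H650/Ppd/Psp` for `Row0` (helper34)
-/

set_option autoImplicit false
set_option linter.unusedSectionVars false
set_option linter.style.haveILetI false

namespace Cfsg.Agent.H650.Ppd.Om0

open Cfsg.Agent.SM.Om.Df

open CoxeterSystem Cfsg.Agent.ChevalleyStructure.CoxeterGeom Cfsg.Agent.Tits.Roots Cfsg.Agent.Tits.Core
  Cfsg.Agent.Nodes.Reps Cfsg.Agent.Nodes.BNOf Cfsg.Agent.Nodes.Bruhat Cfsg.Agent.Nodes.RGDLib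
open Cfsg.Agent.Nodes Cfsg.Agent.Nodes.WittRoot Cfsg.Agent.Nodes.WittRGD Cfsg.Agent.Nodes.WittAll
open Cfsg.Agent.Nodes.TypeC (isCartan)
open Cfsg.Agent.TitsThree Cfsg.Agent.TitsThree.Siegel Cfsg.Agent.TitsThree.WittFrame Cfsg.Agent.TitsThree.FrameCN
open Cfsg.Agent.H915.LD Cfsg.Agent.H911 Cfsg.Agent.H905.Md Cfsg.Agent.H925.Nat Cfsg.Agent.Nodes.RGDLift
open Cfsg.Agent.H156.Ppd (Cov lrep)
open Cfsg.Agent.H948.Ppd (TB XB NB exists_covB identify_B lift_nd lift_comm_pow)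
open Cfsg.Agent.Omega.CR Cfsg.Agent.Omega.FOne.Lift.Sd
open Cfsg Cfsg.Geo
open Cfsg.Agent.H100.Ppd (Nat')
open scoped MatrixGroups Matrix

universe u

section row

variable {n : ℕ} {F : Type u} [Field F] [Finite F] {k m : ℕ} {P : Subgroup (GL (Fin n) F)}

/-- a prime divisor of `m` dividing `|Sp_2l(K)|` -/
theorem le_of_dvd_sp (h : Row0 k m P) {K : Type*} [Field K] [Fintype K] {j l : ℕ} (hj : 1 ≤ j)
    (hjK : Nat.card F ^ j = Nat.card K) {r : ℕ} (hr : r.Prime) (hrm : r ∣ m)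
    (hd : r ∣ Nat.card (Matrix.symplecticGroup (Fin l) K)) : k ≤ j * (2 * l) := by
  rw [Cfsg.Agent.S0245.result (F := K) rfl l, hr.dvd_mul] at hd
  rcases hd with hd | hd
  · exfalso
    have h1 := hr.dvd_of_dvd_pow hd
    rw [← Nat.card_eq_fintype_card, ← hjK] at h1
    exact h.num.not_dvd_q hr hrm (hr.dvd_of_dvd_pow h1)
  · obtain ⟨e, he, hde⟩ := (Prime.dvd_finsetProd_iff hr.prime _).1 hd
    rw [Finset.mem_range] at he
    have h1 := le_of_dvd h.num hr hrm (hjK.trans Nat.card_eq_fintype_card) hj (by omega) hde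
    exact h1.trans (Nat.mul_le_mul_left _ (by omega))

variable {K : Type} [Field K] [Fintype K] (p : ℕ) [hp : Fact p.Prime] [hFp : CharP F p] [hKp : CharP K p]
include hp hFp hKp

/-- **`PSp_2l(K)` in its own characteristic.** -/
theorem nat_psp (h : Row0 k m P) (hg : ∃ r, r.Prime ∧ r ∣ m ∧ r ∣ Nat.card (Soc P)) {l : ℕ} (hl : 2 ≤ l)
    (h3 : l = 2 → 3 ≤ Fintype.card K) (e : Soc P ≃* PSp l K) : Nat' P := by
  have hC := h.core
  have hn := h.num
  have hK : 3 ≤ l ∨ (l = 2 ∧ 3 ≤ Nat.card K) ∨ 4 ≤ Nat.card K := by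
    rcases Nat.lt_or_ge l 3 with h1 | h1
    · exact Or.inr (Or.inl ⟨by omega, by rw [Nat.card_eq_fintype_card]; exact h3 (by omega)⟩)
    · exact Or.inl h1
  obtain ⟨j, hj, hjK⟩ := exists_card p hC (by omega) hK e
  have hk : k ≤ j * (2 * l) := by
    obtain ⟨r, hr, hrm, hrT⟩ := hg
    refine le_of_dvd_sp h hj hjK hr hrm (hrT.trans ?_)
    rw [Nat.card_congr e.toEquiv]
    exact Subgroup.card_quotient_dvd_card _
  have hn10 := hn.ten
  have hnlt : n < 2 * (j * (2 * l)) := lt_of_lt_of_le hn.nlt (Nat.mul_le_mul_left _ hk)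
  have h4 : 2 * (j * (2 * l)) = 4 * (l * j) := by ring
  rw [h4] at hnlt
  rcases Nat.lt_or_ge l 3 with h1 | h1
  · exfalso
    obtain rfl : l = 2 := by omega
    have h5 := le_card_psp4 p hC e (e := j) (by omega) hjK.symm
    rw [Fintype.card_fin] at h5
    omega
  · have h5 := cjOf_sp p hC h1 e hj hjK.symm (by rw [Fintype.card_fin]; exact hn10)
      (by rw [Fintype.card_fin]; exact hnlt)
    obtain ⟨f, hf, h6⟩ := h5.sp_form
    refine Or.inr (Or.inl ⟨f, hf, fun x hx => (h6 x).2 fun u v => hx _ rfl u v⟩)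

end row

end Cfsg.Agent.H650.Ppd.Om0
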