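import Cfsg.Agent.H909.PpdSz
import Cfsg.Agent.SM.Om.Df.Defs

/-!
# SM, box `Df`: copy of the rows of `H909/PpdSz` for `Row0` (helper34)
-/

set_option autoImplicit false
set_option linter.unusedSectionVars false

namespace Cfsg.Agent.H909.Ppd.Om0

open Cfsg.Agent.SM.Om.Df

open Cfsg Cfsg.Geo Matrix Cfsg.Agent.H915.LD Cfsg.Agent.H861.SzN Cfsg.Agent.H100.Ppd Cfsg.Agent.H905.Md

universe u v

/-- `k` divides the exponent -/
theorem k_dvd {n : ℕ} {F : Type u} [Field F] [Finite F] {k m : ℕ} {P : Subgroup (GL (Fin n) F)} (h : Row0 k m P)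
    {r i : ℕ} (hr : r.Prime) (hrm : r ∣ m) (hd : r ∣ Nat.card F ^ i - 1) : k ∣ i := by
  have : Fact r.Prime := ⟨hr⟩
  rw [← h.num.pow_eq_one_iff hr hrm]
  have h1 : 1 ≤ Nat.card F ^ i := Nat.one_le_pow _ _ (by have := h.num.one_lt_q; omega)
  have h2 : ((Nat.card F ^ i - 1 : ℕ) : ZMod r) = 0 := (ZMod.natCast_eq_zero_iff _ _).2 hd
  rw [Nat.cast_sub h1, Nat.cast_pow, Nat.cast_one, sub_eq_zero] at h2
  exact h2

variable {n : ℕ} {F : Type u} [Field F] [Finite F] {k m : ℕ} {P : Subgroup (GL (Fin n) F)}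

/-- **Suzuki groups in characteristic two.** -/
theorem not_sz_of [CharP F 2] (h : Row0 k m P) (hg : ∃ r, r.Prime ∧ r ∣ m ∧ r ∣ Nat.card (Soc P))
    {K : Type v} [Field K] [Fintype K] {l : ℕ} (hl : 1 ≤ l) (hK : Fintype.card K = 2 ^ (2 * l + 1))
    (e : Soc P ≃* Cfsg.Lie.Sz K (2 ^ (l + 1))) : False := by
  classical
  have : Fact (Nat.Prime 2) := ⟨Nat.prime_two⟩
  have hC := h.core
  obtain ⟨j⟩ := exists_emb F hK
  obtain ⟨φ, S, hφ, hS, hcard, htr⟩ := sz_model hC hl hK e j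
  rw [Fintype.card_fin] at hcard
  -- `|F| ^ s = |K|`
  obtain ⟨s, hs, hFs⟩ := card_pow_eq (F := F) 2 (a := 2 * l + 1) (by omega)
    (pow_eq_of_no_subfield hC.absIrred hC.no_subfield 2 _ fun g hg => by
      rw [← hK]
      exact (sz_both hC.absIrred hC.perfect hl hK e hg).1)
  have := Fintype.ofFinite F
  obtain ⟨f, hf0, hf⟩ := FiniteField.card F 2
  have hfs : (f : ℕ) * s = 2 * l + 1 := by
    rw [Nat.card_eq_fintype_card, hf, ← pow_mul] at hFs
    exact Nat.pow_right_injective le_rfl hFs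
  -- periodicity
  have hper : S.image (sh (f : ℕ)) = S := by
    refine image_eq j hK fun x => ?_
    obtain ⟨g, rfl⟩ := trace_surj hK x
    rw [← htr, ← map_pow, ← hf, FiniteField.pow_card]
  have hle : s ≤ S.card := le_card hS hfs hper
  have h4 : 4 ^ s ≤ n := by
    rw [hcard]
    exact Nat.pow_le_pow_right (by norm_num) hle
  -- `k ≤ 4 s`
  obtain ⟨r, hr, hrm, hrc⟩ := hg
  have hk : k ∣ 4 * s := by
    refine k_dvd h hr hrm ?_
    rw [Nat.card_congr e.toEquiv, (Cfsg.Agent.S1163.result hl hK).1] at hrc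
    rw [mul_comm, pow_mul, hFs]
    refine dvd_aux hr (fun h1 => ?_) hrc
    rw [← hFs] at h1
    exact h.num.not_dvd_q hr hrm (hr.dvd_of_dvd_pow h1)
  have hk2 : k ≤ 4 * s := Nat.le_of_dvd (by omega) hk
  have hn := h.num.nlt
  have hten := h.num.ten
  -- `4 ^ s < 8 s`
  have hbad : ∀ s : ℕ, 2 ≤ s → 8 * s ≤ 4 ^ s := by
    intro s hs
    induction s, hs using Nat.le_induction with
    | base => norm_num
    | succ s hs ih => rw [pow_succ]; omega
  by_cases hs2 : 2 ≤ s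
  · have := hbad s hs2
    omega
  · omega

/-- **Suzuki groups in characteristic two.** -/
theorem not_sz {p : ℕ} [Fact p.Prime] [CharP F p] (h : Row0 k m P)
    (hg : ∃ r, r.Prime ∧ r ∣ m ∧ r ∣ Nat.card (Soc P)) (hp : p = 2) (hT : Lie.IsoSuzuki (Soc P)) : False := by
  subst hp
  obtain ⟨K, _, _, l, hl, hK, ⟨e⟩⟩ := hT
  exact not_sz_of h hg hl hK e

end Cfsg.Agent.H909.Ppd.Om0
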