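import Cfsg.Agent.H909.PpdReeB
import Cfsg.Agent.SM.Om.Df.Defs
import Cfsg.Agent.SM.Om.Df.Sz

/-!
# SM, box `Df`: copy of the rows of `H909/PpdReeB` for `Row0` (helper34)
-/

set_option autoImplicit false
set_option linter.unusedSectionVars false

namespace Cfsg.Agent.H909.Ppd.Om0

open Cfsg.Agent.SM.Om.Df

open Matrix
open Cfsg Cfsg.Geo Cfsg.Lie Cfsg.Agent.ChevalleyStructure.Ree Cfsg.Agent.ChevalleyStructure.Ree.Words
  Cfsg.Agent.ChevalleyStructure.Ree.Gens Cfsg.Agent.ChevalleyStructure.Ree.Normal
  Cfsg.Agent.ChevalleyStructure.Ree.Bruhat Cfsg.Agent.ChevalleyStructure.Ree.Blocks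
  Cfsg.Agent.LieRecognition.ReeSylowThree Cfsg.Agent.FixBN.ReeSplit Cfsg.Agent.H905.Md Cfsg.Agent.H915.LD
  Cfsg.Agent.H911 Cfsg.Agent.H100.Ppd Cfsg.Agent.H141.ReeK

universe u v w

section row

open Cfsg.Agent.H909.ReeKer

variable {n : ℕ} {F : Type u} [Field F] [Finite F] {k m : ℕ} {P : Subgroup (GL (Fin n) F)}

/-- **Ree groups in characteristic three.** -/
theorem not_ree_of [CharP F 3] (h : Row0 k m P) (hg : ∃ r, r.Prime ∧ r ∣ m ∧ r ∣ Nat.card (Soc P))
    {K : Type v} [Field K] [Fintype K] {l : ℕ} (hl : 1 ≤ l) (hK : Fintype.card K = 3 ^ (2 * l + 1))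
    (e : Soc P ≃* ↥(twistedG2 K (3 ^ l))) : False := by
  classical
  have h3p : Fact (Nat.Prime 3) := ⟨Nat.prime_three⟩
  have hk : CharP (AlgebraicClosure F) 3 :=
    charP_of_injective_ringHom (algebraMap F (AlgebraicClosure F)).injective 3
  have hC := h.core
  have hn := h.num.nlt
  have hten := h.num.ten
  -- `|F| ^ s = |K|`
  obtain ⟨s, hs, hFs⟩ := card_pow_eq (F := F) 3 (a := 2 * l + 1) (by omega)
    (pow_eq_of_no_subfield hC.absIrred hC.no_subfield 3 _ fun g hg => by
      rw [← hK]
      exact (ree_both hC.absIrred hC.perfect hl hK e hg).1)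
  have hF := Fintype.ofFinite F
  obtain ⟨f, hf0, hf⟩ := FiniteField.card F 3
  have hF3 : Nat.card F = 3 ^ (f : ℕ) := by rw [Nat.card_eq_fintype_card, hf]
  have hfs : (f : ℕ) * s = 2 * l + 1 := by
    rw [hF3, ← pow_mul] at hFs
    exact Nat.pow_right_injective (show 2 ≤ 3 by norm_num) hFs
  -- `k ≤ 6 s`
  obtain ⟨r', hr', hrm, hrc⟩ := hg
  have hkd : k ∣ 6 * s := by
    refine k_dvd h hr' hrm ?_
    rw [Nat.card_congr e.toEquiv, Cfsg.Agent.LieRecognition.ReeFinal.card hK, ← hFs] at hrc
    rw [mul_comm, pow_mul]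
    exact dvd_six hr' (fun h1 => h.num.not_dvd_q hr' hrm (hr'.dvd_of_dvd_pow h1)) hrc
  have hk2 : k ≤ 6 * s := Nat.le_of_dvd (by omega) hkd
  -- `s = 1`
  by_cases hs1 : s = 1
  · have h7 := Cfsg.Agent.H708.ReeSix.ree_eq_seven hC hl hK e (by rw [Fintype.card_fin]; omega)
    rw [Fintype.card_fin] at h7
    omega
  have hs3 : 3 ≤ s := by
    have hodd : Odd (f * s : ℕ) := ⟨l, by rw [hfs]⟩
    have := (Nat.odd_mul.1 hodd).2
    obtain ⟨b, hb⟩ := this
    omega
  -- the coefficient
  obtain ⟨θ, c⟩ := exists_ctx hK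
  obtain ⟨j⟩ := H141.ReeK.exists_emb F hK
  obtain ⟨φ, v, ψ, r, hφ, hinj, hr1, hr2, hψv, hU, hT, hψU, hψn, -, hker⟩ := core_coef hC hl hK e c j
  have hv : v ≠ 0 := by
    rintro rfl
    rw [map_zero] at hψv
    exact zero_ne_one hψv
  -- `r = t (1 + q + ...)`
  have hper := period hC hK c j hφ hv hU hT
  have hq3 : 3 ^ 1 ≤ 3 ^ (f : ℕ) := Nat.pow_le_pow_right (by norm_num) f.pos
  have hGm := Gm_mul f s
  rw [hfs] at hGm
  obtain ⟨t, ht⟩ : Gm f s ∣ r := by
    rw [hK, hF3] at hper
    have h1 : 3 ^ (2 * l + 1) - 1 = Gm f s * (3 ^ (f : ℕ) - 1) := by omega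
    rw [h1] at hper
    exact Nat.dvd_of_mul_dvd_mul_right (by omega) hper
  have ht1 : 1 ≤ t := by
    rcases Nat.eq_zero_or_pos t with rfl | h1
    · rw [mul_zero] at ht; omega
    · exact h1
  have ht2 : t ≤ 3 ^ (f : ℕ) - 1 := by
    have h1 : Gm f s * t ≤ Gm f s * (3 ^ (f : ℕ) - 1) := by
      rw [← ht]
      rw [hK] at hr2
      omega
    exact Nat.le_of_mul_le_mul_left h1 (Gm_pos (by omega))
  rw [mul_comm] at ht
  have hfr : Module.finrank (AlgebraicClosure F) (Fin n → AlgebraicClosure F) = n := by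
    rw [Module.finrank_fintype_fun_eq_card, Fintype.card_fin]
  rcases per_le (V := Fin n → AlgebraicClosure F) j hl hK hfs ht1 ht2
    (f := fun t u w => ψ.comp (lin (acRep φ) (Data.U K (3 ^ l) t u w)))
    (w := fun t u w => lin (acRep φ) (Data.N c * Data.U K (3 ^ l) t u w * Data.N c) v)
    (by rw [← ht]; exact hker) with h4 | h4
  · rw [hfr] at h4
    have := four_mul_le hs3
    omega
  · rw [hfr, hK, ← hfs] at h4
    by_cases hs4 : 4 ≤ s
    · have h5 := three_mul_le hs4
      have h6 : 3 ^ s ≤ 3 ^ ((f : ℕ) * s) := Nat.pow_le_pow_right (by norm_num) (Nat.le_mul_of_pos_left _ f.pos)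
      omega
    · have hs3' : s = 3 := by omega
      subst hs3'
      by_cases hf1 : (f : ℕ) = 1
      · -- `|K| = 27`
        rw [hf1] at hfs ht ht2
        have hl1 : l = 1 := by omega
        subst hl1
        have hG13 : Gm 1 3 = 13 := by decide
        rw [hG13] at ht
        have h2k : (2 : AlgebraicClosure F) ≠ 0 := by
          intro h0
          have h1 : ((2 : ℕ) : AlgebraicClosure F) = 0 := by exact_mod_cast h0
          rw [CharP.cast_eq_zero_iff (AlgebraicClosure F) 3] at h1
          omega
        have hfin : Finite ↥(twistedG2 K (3 ^ 1)) := finite (Data.data c)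
        have ht12 : t = 1 ∨ t = 2 := by
          norm_num at ht2
          omega
        rcases ht12 with rfl | rfl
        · -- exponent 13
          rw [one_mul] at ht
          subst ht
          have h27 := ng_ge c j hK hT hker
          set z := Data.T c (-1) with hz
          have hzz : z * z = 1 := negone_sq c
          have hz1 : z ≠ 1 := by
            intro h1
            have h5 := hT (-1)
            rw [← hz, h1, map_one, Module.End.one_apply, dd_neg_one, map_neg, map_one] at h5
            have h6 : v = -v := by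
              refine h5.trans ?_
              norm_num
            have h7 : (2 : AlgebraicClosure F) • v = 0 := by
              rw [two_smul]
              nth_rewrite 2 [h6]
              exact add_neg_cancel v
            exact hv ((smul_eq_zero.1 h7).resolve_left h2k)
          have h2g : IsPGroup 2 (Subgroup.zpowers z) := by
            apply IsPGroup.of_card (n := 1)
            rw [Nat.card_zpowers, orderOf_eq_prime (p := 2) (by rw [pow_two, hzz]) hz1, pow_one]
          obtain ⟨S, hS⟩ := h2g.exists_le_sylow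
          have hzS : z ∈ (S : Subgroup ↥(twistedG2 K (3 ^ 1))) := hS (Subgroup.mem_zpowers z)
          obtain ⟨a, haH, ha1, ha2⟩ := Cfsg.Agent.S1157.exists_involution hK
          obtain ⟨h8, -⟩ := (Cfsg.Agent.S1152.result hK a haH ha1 ha2).2 S
          obtain ⟨g, hgS, hg7, hfix⟩ := Cfsg.Agent.H708.ReeSix.ree_data' (by norm_num) hK S
          have hz'S := hgS z hzS
          have hz'1 : g⁻¹ * z * g ≠ 1 := by
            intro h1
            apply hz1
            have h5 : z = g * (g⁻¹ * z * g) * g⁻¹ := by group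
            rw [h5, h1]
            group
          have hzz'1 : z * (g⁻¹ * z * g) ≠ 1 := by
            intro h1
            apply hz1
            apply hfix z hzS
            have h5 : z⁻¹ = z := inv_eq_of_mul_eq_one_left hzz
            have h6 : g⁻¹ * z * g = z⁻¹ := eq_inv_of_mul_eq_one_right h1
            rw [h6, h5]
          obtain ⟨x, hx⟩ := exists_conj h8 hgS hg7 hfix hzS hz1 (mul_mem hzS hz'S) hzz'1
          have h5 := ng_three (ρ := lin (acRep φ)) h2k (z := z) (z' := g⁻¹ * z * g) 27 h27
            (h27.trans ng_conj_le) (by rw [hx]; exact h27.trans ng_conj_le)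
          rw [hfr] at h5
          omega
        · -- exponent 26
          have hcard : Nat.card (uSub (Data.data c)) = 27 ^ 3 := by rw [card_uSub, hK]; norm_num
          have h5 := steinberg_le (ree_sp1 hK (Data.data c)) (ρ := lin (acRep φ)) (v := v) (ψ := ψ)
            (by rintro _ ⟨t, u, w, rfl⟩; exact hU t u w)
            (by
              rintro _ ⟨α, rfl⟩
              rw [hT, ht, ← map_pow]
              have h6 : c.dd α ^ (2 * 13) = 1 := by
                have := FiniteField.pow_card_sub_one_eq_one _ (c.dd_ne α)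
                rw [hK] at this
                norm_num at this
                exact this
              rw [h6, map_one, one_smul])
            (by
              rintro _ ⟨t, u, w, rfl⟩ x
              rw [(Data.data c).n_inv]
              exact hψU t u w x) hψv hψn
          rw [hcard, hfr] at h5
          omega
      · have hf2 : 2 ≤ (f : ℕ) := by
          have := f.pos
          omega
        have h6 : 3 ^ (2 * 3) ≤ 3 ^ ((f : ℕ) * 3) := Nat.pow_le_pow_right (by norm_num) (by omega)
        norm_num at h6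
        omega

/-- **Ree groups in characteristic three.** -/
theorem not_ree {p : ℕ} [Fact p.Prime] [CharP F p] (h : Row0 k m P)
    (hg : ∃ r, r.Prime ∧ r ∣ m ∧ r ∣ Nat.card (Soc P)) (hp : p = 3) (hT : Lie.IsoRee (Soc P)) : False := by
  subst hp
  obtain ⟨K, _, _, l, hl, hK, ⟨e⟩⟩ := hT
  exact not_ree_of h hg hl hK e

end row

end Cfsg.Agent.H909.Ppd.Om0
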