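import Cfsg.Agent.H762.Ppd.Psu
import Cfsg.Agent.SM.Om.Df.Defs
import Cfsg.Agent.SM.Om.Df.UAux
import Cfsg.Agent.SM.Om.Df.U6

/-!
# SM, box `Df`: copy of the rows of `H762/Ppd/Psu` for `Row0` (helper34)
-/

set_option autoImplicit false
set_option linter.unusedSectionVars false

namespace Cfsg.Agent.H762.Ppd.Om0

open Cfsg.Agent.SM.Om.Df

open Cfsg Cfsg.Geo
open Cfsg.Agent.H915.LD
open Cfsg.Agent.H100.Ppd (Nat')
open scoped MatrixGroups Matrix

universe u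

variable {n : ℕ} {F : Type u} [Field F] [Finite F] {k m : ℕ} {P : Subgroup (GL (Fin n) F)}
  {K : Type} [Field K] [Fintype K] {N q₀ : ℕ} (p : ℕ) [hp : Fact p.Prime] [hFp : CharP F p] [hKp : CharP K p]
include hp hFp hKp

/-- **`PSU_N(q₀)`, `N ≥ 6`, in its own characteristic.** -/
theorem nat_psu (h : Row0 k m P) (hg : ∃ r, r.Prime ∧ r ∣ m ∧ r ∣ Nat.card (Soc P)) (hN : 6 ≤ N)
    (hK : Fintype.card K = q₀ ^ 2) (e : Soc P ≃* PSU N K q₀) : Nat' P := by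
  refine nat_psu_aux p h hN hK e (fun j _ hj => H69.Ppd.Om0.le_psu h hK (by omega) hj hg e) ?_
  intro hN3 W d h7 hd hV0 φ₀ hφ₀ hj hJ
  subst h7
  have hne := h.core.nonempty
  have h1 := H69.Ppd.seven_last hN3 W (Or.inr ⟨d, hd, hV0⟩) hφ₀ h.core.absIrred (i := 2) (by decide) hd hV0 hJ hj
  rwa [Fintype.card_fin] at h1

end Cfsg.Agent.H762.Ppd.Om0
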