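import Cfsg.Agent.H525.Ppd.UMain
import Cfsg.Agent.SM.Om.Df.Defs

/-!
# SM, box `Df`: copy of the rows of `H525/Ppd/UMain` for `Row0` (helper34)
-/

set_option autoImplicit false
set_option linter.unusedSectionVars false
set_option linter.style.haveILetI false

namespace Cfsg.Agent.H525.Ppd.Om0

open Cfsg.Agent.SM.Om.Df

open Cfsg Cfsg.Geo Cfsg.Agent.LieClassical.HermSiegel Cfsg.Agent.LieClassical.HermBasic Matrix Cfsg.Agent.H906
  Cfsg.Agent.H915.LD Cfsg.Agent.H905.Md Cfsg.Agent.H929.U3 Cfsg.Agent.H100.Ppd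

universe u

/-- **The row `PSU(3, q₀)`, defining characteristic** -/
theorem not_psu3 {n k m : ℕ} {F : Type u} [Field F] [Finite F] {P : Subgroup (GL (Fin n) F)} (h : Row0 k m P)
    (hg : ∃ r, r.Prime ∧ r ∣ m ∧ r ∣ Nat.card (Soc P)) {p : ℕ} [hp : Fact p.Prime] [hFp : CharP F p] {K : Type}
    [Field K] [Fintype K] [hKp : CharP K p] {q₀ : ℕ} (hK : Fintype.card K = q₀ ^ 2) (h2 : q₀ ≠ 2)
    (e : Soc P ≃* PSU 3 K q₀) : False := by
  have hq2 := two_le hK
  obtain ⟨N, hN1, hN, hb⟩ := core_bound p h.core (by omega) hK e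
  rw [Fintype.card_fin] at hb
  obtain ⟨r, hr, hrm, hrc⟩ := hg
  have hten := h.num.ten
  have hlt := h.num.nlt
  have hrq : ¬ r ∣ q₀ := by
    intro hd
    have h1 : r ∣ Nat.card F ^ N := by
      rw [hN]
      exact dvd_pow hd (by norm_num)
    exact h.num.not_dvd_q hr hrm (hr.dvd_of_dvd_pow h1)
  rw [Nat.card_congr e.toEquiv] at hrc
  have h1 := dvd_of_card hK hr hrq hrc
  have hk : k ∣ 3 * N := by
    rw [← h.num.pow_eq_one_iff hr hrm]
    have : Fact r.Prime := ⟨hr⟩
    have h2 : Nat.card F ^ (3 * N) = q₀ ^ 6 := by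
      rw [mul_comm, pow_mul, hN]
      ring
    have h3 : 1 ≤ q₀ ^ 6 := Nat.one_le_pow _ _ (by omega)
    rw [← Nat.cast_pow, h2, ← sub_eq_zero, ← Nat.cast_one, ← Nat.cast_sub h3, ZMod.natCast_eq_zero_iff]
    exact h1
  have hk6 := h.num.six_le
  have hk3 := Nat.le_of_dvd (by omega) hk
  by_cases hN3 : 3 ≤ N
  · have := hb hN3
    omega
  · obtain rfl : N = 2 := by omega
    rcases core_psu3 p h.core (by omega) hK e (by rw [Fintype.card_fin]; omega) with hsd | hc
    · rcases core_psu3_sd p h.core (by omega) hK e (by rw [Fintype.card_fin]; omega) hsd with h2 | h2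
      · rw [Fintype.card_fin] at h2
        omega
      · rw [Fintype.card_fin] at h2
        omega
    · have h3 : 1 < q₀ ^ 2 := Nat.one_lt_pow (by norm_num) (by omega)
      rw [hc.1, pow_two (q₀ ^ 2)] at hN
      nlinarith

end Cfsg.Agent.H525.Ppd.Om0
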