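import Cfsg.Agent.H269.Ppd.PsuFour
import Cfsg.Agent.SM.Om.Df.Defs

/-!
# SM, box `Df`: copy of the rows of `H269/Ppd/PsuFour` for `Row0` (helper34)
-/

set_option autoImplicit false
set_option linter.unusedSectionVars false

namespace Cfsg.Agent.H269.Ppd.Om0

open Cfsg.Agent.SM.Om.Df

open Cfsg Cfsg.Geo Matrix Cfsg.Agent.H100.Ppd Cfsg.Agent.H915.LD
open scoped MatrixGroups

universe u

variable {F : Type u} [Field F] [Finite F]

/-- **The row `PSU(4, q₀)`, defining characteristic** -/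
theorem not_psu4 {n k m : ℕ} {P : Subgroup (GL (Fin n) F)} (h : Row0 k m P)
    (hg : ∃ r, r.Prime ∧ r ∣ m ∧ r ∣ Nat.card (Soc P)) {p : ℕ} [hp : Fact p.Prime] [hFp : CharP F p] {K : Type}
    [Field K] [Fintype K] [hKp : CharP K p] {q₀ : ℕ} (hK : Fintype.card K = q₀ ^ 2)
    (e : Soc P ≃* PSU 4 K q₀) : False := by
  have hten := h.num.ten
  have hlt := h.num.nlt
  have hne : Nonempty (Fin n) := ⟨⟨0, by omega⟩⟩
  have hq2 : 2 ≤ q₀ := by
    by_contra hcon
    have h1 := Fintype.one_lt_card (α := K)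
    rw [hK] at h1
    have h2 : q₀ = 0 ∨ q₀ = 1 := by omega
    rcases h2 with rfl | rfl <;> norm_num at h1
  obtain ⟨N, hN1, hN⟩ := exists_card_pow h.core p (M := 4) (by norm_num) (by omega) hK e
  have hb := core_bound4 p h.core hK e hN (by rw [Fintype.card_fin]; omega)
  rw [Fintype.card_fin] at hb
  obtain ⟨r, hr, hrm, hrc⟩ := hg
  have hrq : ¬ r ∣ q₀ := by
    intro hd
    have h1 : r ∣ Nat.card F ^ N := by
      rw [hN]
      exact dvd_pow hd (by norm_num)
    exact h.num.not_dvd_q hr hrm (hr.dvd_of_dvd_pow h1)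
  rw [Nat.card_congr e.toEquiv] at hrc
  have hkey : ∀ c : ℕ, r ∣ q₀ ^ (2 * c) - 1 → k ∣ c * N := by
    intro c hc
    rw [← h.num.pow_eq_one_iff hr hrm]
    have : Fact r.Prime := ⟨hr⟩
    have h2 : Nat.card F ^ (c * N) = q₀ ^ (2 * c) := by
      rw [mul_comm, pow_mul, hN, ← pow_mul]
    have h3 : 1 ≤ q₀ ^ (2 * c) := Nat.one_le_pow _ _ (by omega)
    rw [← Nat.cast_pow, h2, ← sub_eq_zero, ← Nat.cast_one, ← Nat.cast_sub h3, ZMod.natCast_eq_zero_iff]
    exact hc
  have hk : k ≤ 3 * N := by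
    rcases dvd_of_card4 hK hq2 hr hrq hrc with h1 | h1
    · exact Nat.le_of_dvd (by omega) (hkey 3 h1)
    · exact (Nat.le_of_dvd (by omega) (hkey 2 h1)).trans (Nat.mul_le_mul_right _ (by norm_num))
  rcases hb with hb | ⟨s, hs1, hsN, h4, h25, h14⟩
  · have := bound_A N (by omega)
    omega
  · by_cases hs3 : 3 ≤ s
    · have := bound_B s hs3
      rcases hsN with h5 | h5 <;> omega
    · have hs : s = 1 ∨ s = 2 := by omega
      rcases hs with rfl | rfl
      · have := h14 rfl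
        rcases hsN with h5 | h5 <;> omega
      · have := h25 rfl
        rcases hsN with h5 | ⟨h5, h6⟩
        · omega
        · exact h6 (dvd_refl _)

end Cfsg.Agent.H269.Ppd.Om0
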