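import Cfsg.Agent.SM.Om.Defs
import Cfsg.Agent.SM.Om.Df.Psl
import Cfsg.Agent.SM.Om.Df.Psp
import Cfsg.Agent.SM.Om.Df.U3
import Cfsg.Agent.SM.Om.Df.U4
import Cfsg.Agent.SM.Om.Df.U5
import Cfsg.Agent.SM.Om.Df.U
import Cfsg.Agent.SM.Om.Df.TwF
import Cfsg.Agent.SM.Om.Df.Podd
import Cfsg.Agent.SM.Om.Df.Pminus
import Cfsg.Agent.SM.Om.Df.Sz
import Cfsg.Agent.SM.Om.Df.Ree
import Cfsg.Agent.SM.Om.Df.Pplus
import Cfsg.Agent.SM.Om.Df.Exc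
import Cfsg.Agent.SM.Om.Df.G2
import Cfsg.Agent.SM.Om.Df.D4

/-!
# SM, box `Df` (helper34)
-/

set_option autoImplicit false

namespace Cfsg.Agent.SM.Om.Df

open Cfsg Cfsg.Geo Matrix
open Cfsg.Agent.H915.LD
open Cfsg.Agent.H100.Ppd (Nat')

universe u

variable {n : ℕ} {F : Type u} [Field F] [Finite F] {k m : ℕ} {P : Subgroup (GL (Fin n) F)}

theorem Row0.nat_def (h : Row0 k m P) (hg : ∃ r, r.Prime ∧ r ∣ m ∧ r ∣ Nat.card (H915.LD.Soc P))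
    (p : ℕ) [hp : Fact p.Prime] [CharP F p] (hT : IsLieTypeChar p (H915.LD.Soc P)) :
    Nat' P := by
  rcases hT with hT | hT | hT | hT | hT | hT | hT | hT | hT | hT | hT
  · obtain ⟨K, _, _, _, N, h1, h2, ⟨e⟩⟩ := hT
    exact H650.Ppd.Om0.nat_psl p h hg h1 h2 e
  · obtain ⟨K, _, _, _, N, h1, h2, ⟨e⟩⟩ := hT
    exact H650.Ppd.Om0.nat_psp p h hg h1 h2 e
  · obtain ⟨K, _, _, _, N, q, h0, h1, h2, ⟨e⟩⟩ := hT
    by_cases h6 : 6 ≤ N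
    · exact H762.Ppd.Om0.nat_psu p h hg h6 h0 e
    · have h3 : N = 3 ∨ N = 4 ∨ N = 5 := by omega
      rcases h3 with rfl | rfl | rfl
      · exact (H525.Ppd.Om0.not_psu3 h hg (p := p) h0 (fun h => h2 ⟨rfl, h⟩) e).elim
      · exact (H269.Ppd.Om0.not_psu4 h hg (p := p) h0 e).elim
      · exact (H69.Ppd.Om0.not_psu5 h hg (p := p) h0 e).elim
  · obtain ⟨K, _, _, _, N, h1, h2, ⟨e⟩⟩ := hT
    exact H948.Ppd.Om0.nat_podd p h hg h1 h2 e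
  · obtain ⟨K, _, _, _, N, h1, ⟨e⟩⟩ := hT
    exact H156.Ppd.PPlus.Om0.nat_pplus h hg p h1 e
  · obtain ⟨K, _, _, _, N, a, b, h1, h2, ⟨e⟩⟩ := hT
    exact H948.Ppd.Om0.nat_pminus p h hg h1 a b h2 e
  · obtain ⟨K, _, _, _, hT⟩ := hT
    rcases hT with ⟨h3, ⟨e⟩⟩ | ⟨⟨e⟩⟩ | ⟨⟨e⟩⟩ | ⟨⟨e⟩⟩ | ⟨⟨e⟩⟩
    · exact (H744.Ppd.G2.Om0.not_g2 h hg (p := p) h3 e).elim
    · exact (H2.Ppd.Om0.not_f4 h hg (p := p) e).elim
    · exact (H2.Ppd.Om0.not_e6 h hg (p := p) e).elim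
    · exact (H2.Ppd.Om0.not_e7 h hg (p := p) e).elim
    · exact (H2.Ppd.Om0.not_e8 h hg (p := p) e).elim
  · obtain ⟨K, _, _, _, q, hq, ⟨hK, ⟨e⟩⟩ | ⟨hK, ⟨e⟩⟩⟩ := hT
    · exact (H2.Ppd.Om0.not_2e6 h hg (p := p) hq hK e).elim
    · exact (H744.Ppd.D4.Om0.not_3d4 h hg (p := p) hq hK e).elim
  · obtain ⟨rfl, hT⟩ := hT
    exact (H909.Ppd.Om0.not_sz h hg rfl hT).elim
  · obtain ⟨rfl, hT⟩ := hT
    exact (H315.TwF.Om0.not_2f4 h hg rfl hT).elim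
  · obtain ⟨rfl, hT⟩ := hT
    exact (H909.Ppd.Om0.not_ree h hg rfl hT).elim

end Cfsg.Agent.SM.Om.Df

namespace Cfsg.Agent.SM.Om

theorem boxDf : BoxDf := by
  intro F _ _ p n k r _ _ P h1 h2 h3 h4 h5 h6 h7 h8
  have := Fact.mk h4.prime
  have hq : 1 ≤ Nat.card F := Nat.card_pos
  have key : ∀ i, r ∣ Nat.card F ^ i - 1 ↔ k ∣ i := fun i => by
    rw [← h4.ord, orderOf_dvd_iff_pow_eq_one, ← ZMod.natCast_eq_zero_iff, Nat.cast_sub (Nat.one_le_pow _ _ hq), Nat.cast_pow,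
      Nat.cast_one, sub_eq_zero]
  exact Df.Row0.nat_def (k := k) (m := r) ⟨h6, h1, h2, h3, by omega, (key k).2 dvd_rfl, fun i hi hik =>
    (Nat.Prime.coprime_iff_not_dvd h4.prime).2 fun e => absurd (Nat.le_of_dvd hi ((key i).1 e)) (by omega)⟩
    ⟨r, h4.prime, dvd_rfl, h7⟩ p h8

end Cfsg.Agent.SM.Om
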