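import Cfsg.Agent.H2.Ppd.Exc
import Cfsg.Agent.SM.Om.Df.Defs

/-!
# SM, box `Df`: copy of the rows of `H2/Ppd/Exc` for `Row0` (helper34)
-/

set_option autoImplicit false
set_option linter.unusedSectionVars false
set_option linter.style.haveILetI false

namespace Cfsg.Agent.H2.Ppd.Om0

open Cfsg.Agent.SM.Om.Df

open Matrix CoxeterSystem Cfsg.Agent.ChevalleyStructure.CoxeterGeom Cfsg.Agent.Tits.Roots Cfsg.Agent.Tits.Core
  Cfsg.Agent.Tits.Exchange Cfsg.Agent.Nodes.Reps Cfsg.Agent.Nodes.BNOf Cfsg.Agent.Nodes.Bruhat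
open Cfsg.Agent.H905.DC Cfsg.Agent.H915.LD Cfsg.Agent.H100.Ppd Cfsg.Agent.KFacts.MulOdd.Inst
open Cfsg.Agent.H64.CrossChev (Nd nd isType_F4 isType_E6 isType_E7 isType_E8 parity_E7)
open Cfsg.Agent.Nodes.RGDChev (IsType)
open Cfsg.Lie Cfsg.Agent.ChevalleyStructure Cfsg.Agent.ChevalleyStructure.Elts
  Cfsg.Agent.ChevalleyStructure.CoxeterGeomTypes Cfsg.Agent.KFacts.MulOdd.InstChev
open Cfsg Cfsg.Geo
open scoped MatrixGroups

universe u v w

theorem k_le {p a n k m : ℕ} (h : Num0 (p ^ a) n k m) {r : ℕ} (hr : r.Prime) (hrm : r ∣ m) {b d : ℕ}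
    (hp : p.Prime) (hb : 0 < b) (hd : 0 < d) (hdvd : r ∣ p ^ (b * d) - 1) :
    k ≤ d * (b / Nat.gcd a b) := by
  have : Fact r.Prime := ⟨hr⟩
  have hbd : 0 < b * d := Nat.mul_pos hb hd
  set g := Nat.gcd a (b * d) with hg
  have hg0 : 0 < g := Nat.gcd_pos_of_pos_right _ hbd
  have h1 : (p : ZMod r) ^ (b * d) = 1 := by
    have h2 : 1 ≤ p ^ (b * d) := Nat.one_le_pow _ _ hp.pos
    have h3 : ((p ^ (b * d) - 1 : ℕ) : ZMod r) = 0 := (ZMod.natCast_eq_zero_iff _ _).2 hdvd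
    rw [Nat.cast_sub h2, Nat.cast_pow, Nat.cast_one, sub_eq_zero] at h3
    exact h3
  have h2 : a * (b * d / g) = b * d * (a / g) := by
    obtain ⟨x, hx⟩ : g ∣ a := Nat.gcd_dvd_left _ _
    obtain ⟨y, hy⟩ : g ∣ b * d := Nat.gcd_dvd_right _ _
    have e1 : b * d / g = y := by rw [hy, Nat.mul_div_cancel_left _ hg0]
    have e2 : a / g = x := by rw [hx, Nat.mul_div_cancel_left _ hg0]
    rw [e1, e2, hy]
    conv_lhs => rw [hx]
    ring
  have h3 : ((p ^ a : ℕ) : ZMod r) ^ (b * d / g) = 1 := by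
    rw [Nat.cast_pow, ← pow_mul, h2, pow_mul, h1, one_pow]
  have h4 := (h.pow_eq_one_iff hr hrm _).1 h3
  have h5 : 0 < b * d / g := Nat.div_pos (Nat.le_of_dvd hbd (Nat.gcd_dvd_right _ _)) hg0
  exact (Nat.le_of_dvd h5 h4).trans (div_gcd_le hb)

section rows

variable {n k m : ℕ} {F : Type u} [Field F] [Finite F] {P : Subgroup (GL (Fin n) F)} (h : Row0 k m P)
  (hg : ∃ r, r.Prime ∧ r ∣ m ∧ r ∣ Nat.card (Soc P)) {p : ℕ} [hp : Fact p.Prime] [hcF : CharP F p]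
  {K : Type} [Field K] [Fintype K] [hcK : CharP K p]
include h hg hp hcF hcK

theorem no_chev {D : ChevalleyDatum} {l : ℕ} {M : CoxeterMatrix (Fin l)} (ht : IsType D l M)
    (hpar : parity D l = true) {c d : ℕ} (hcd : 2 * d ≤ c)
    (hidx : ∀ (_ : Finite M.Group) (J : Set (Fin l)) (i : Fin l), i ∉ J → c ≤ (WJ M.toCoxeterSystem J).index)
    (L : List ℕ) (hL : ∀ e ∈ L, 0 < e ∧ e ≤ d) {g N : ℕ}
    (hcard : g * Nat.card ↥(D.group K) = Fintype.card K ^ N * (L.map fun e => Fintype.card K ^ e - 1).prod)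
    (e : Soc P ≃* ↥(D.group K)) : False := by
  obtain ⟨r, hr, hrm, hrd⟩ := hg
  have := Fintype.ofFinite F
  obtain ⟨a, -, hF⟩ := FiniteField.card F p
  obtain ⟨b, -, hK⟩ := FiniteField.card K p
  have hF' : Nat.card F = p ^ (a : ℕ) := by rw [Nat.card_eq_fintype_card, hF]
  have hnum : Num0 (p ^ (a : ℕ)) n k m := by rw [← hF']; exact h.num
  have hrp : ¬ r ∣ Fintype.card K := by
    intro h0
    rw [hK] at h0
    have h1 := hr.dvd_of_dvd_pow h0
    exact hnum.not_dvd_q hr hrm (h1.trans (dvd_pow_self _ a.ne_zero))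
  rw [Nat.card_congr e.toEquiv] at hrd
  obtain ⟨x, hx, hrx⟩ := exists_dvd hr hrp L hcard hrd
  rw [hK, ← pow_mul] at hrx
  obtain ⟨hx0, hxd⟩ := hL x hx
  have h1 := k_le hnum hr hrm hp.out b.pos hx0 hrx
  have : Finite M.Group := Cfsg.Agent.Nodes.RGDChev.finite_W ht M.toCoxeterSystem
  obtain ⟨J, ⟨i, hi⟩, h2, -⟩ := exists_J h.core (Cfsg.Agent.Nodes.RGDChev.rgd (K := K) ht M.toCoxeterSystem p)
    (Cfsg.Agent.Nodes.RGDChev.G1_eq_top ht M.toCoxeterSystem)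
    (fun s hs t ht' => Subtype.ext (diag_comm ht.inList hs ht')) (E := fun _ => K) (nd ht hpar K) e hF'
    (f := fun _ => (b : ℕ)) (fun _ => hK)
  have h3 := h2 i hi
  rw [Fintype.card_fin] at h3
  have h4 := hidx this J i hi
  have h5 : 1 ≤ (b : ℕ) / Nat.gcd a b :=
    Nat.div_pos (Nat.le_of_dvd b.pos (Nat.gcd_dvd_right _ _)) (Nat.gcd_pos_of_pos_right _ b.pos)
  have h6 := two_mul_le_two_pow h5
  set j := (b : ℕ) / Nat.gcd a b
  have h7 : k ≤ d * j := h1.trans (Nat.mul_le_mul_right _ hxd)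
  have h8 := h.num.nlt
  have h9 : 4 * (d * j) ≤ 2 * n := by
    calc 4 * (d * j) = (2 * d) * (2 * j) := by ring
      _ ≤ c * 2 ^ j := Nat.mul_le_mul hcd h6
      _ ≤ _ := Nat.mul_le_mul_right _ h4
      _ ≤ 2 * n := h3
  omega

theorem not_f4 (e : Soc P ≃* ↥(Cfsg.Lie.chevF4.group K)) : False := by
  refine no_chev h hg (p := p) isType_F4 parity_F4 (c := 24) (d := 12) (by norm_num)
    (fun _ J i hi => index_F4 _ hi) [2, 6, 8, 12] (by decide) (g := 1) (N := 24) ?_ e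
  rw [one_mul, S1062.result rfl]
  simp only [List.map_cons, List.map_nil, List.prod_cons, List.prod_nil, mul_one, mul_assoc]

theorem not_e6 (e : Soc P ≃* ↥(Cfsg.Lie.chevE6.group K)) : False := by
  refine no_chev h hg (p := p) isType_E6 parity_E6 (c := 24) (d := 12) (by norm_num)
    (fun _ J i hi => index_E6 _ hi) [2, 5, 6, 8, 9, 12] (by decide) (g := Nat.gcd 3 (Fintype.card K - 1)) (N := 36) ?_ e
  rw [S1063.result rfl]
  simp only [List.map_cons, List.map_nil, List.prod_cons, List.prod_nil, mul_one, mul_assoc]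

theorem not_e7 (e : Soc P ≃* ↥(Cfsg.Lie.chevE7.group K)) : False := by
  refine no_chev h hg (p := p) isType_E7 parity_E7 (c := 36) (d := 18) (by norm_num)
    (fun _ J i hi => index_E7 _ hi) [2, 6, 8, 10, 12, 14, 18] (by decide)
    (g := Nat.gcd 2 (Fintype.card K - 1)) (N := 63) ?_ e
  rw [S1064.result rfl]
  simp only [List.map_cons, List.map_nil, List.prod_cons, List.prod_nil, mul_one, mul_assoc]

theorem not_e8 (e : Soc P ≃* ↥(Cfsg.Lie.chevE8.group K)) : False := by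
  refine no_chev h hg (p := p) isType_E8 parity_E8 (c := 60) (d := 30) (by norm_num)
    (fun _ J i hi => index_E8 _ hi) [2, 8, 12, 14, 18, 20, 24, 30] (by decide) (g := 1) (N := 120) ?_ e
  rw [one_mul, S1065.result rfl]
  simp only [List.map_cons, List.map_nil, List.prod_cons, List.prod_nil, mul_one, mul_assoc]

theorem not_2e6 {q₀ : ℕ} (hq : IsPrimePow q₀) (hK : Fintype.card K = q₀ ^ 2)
    (e : Soc P ≃* ↥(Cfsg.Lie.twistedE6 K q₀)) : False := by
  classical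
  obtain ⟨r, hr, hrm, hrd⟩ := hg
  have := Fintype.ofFinite F
  obtain ⟨a, -, hF⟩ := FiniteField.card F p
  obtain ⟨b', -, hK'⟩ := FiniteField.card K p
  have hF' : Nat.card F = p ^ (a : ℕ) := by rw [Nat.card_eq_fintype_card, hF]
  have hnum : Num0 (p ^ (a : ℕ)) n k m := by rw [← hF']; exact h.num
  -- `q₀ = p ^ b`
  obtain ⟨b, hb, hqb⟩ : ∃ b, 0 < b ∧ q₀ = p ^ b := by
    obtain ⟨s, c, hs, hc, rfl⟩ := (isPrimePow_nat_iff _).1 hq
    have h1 : s = p := by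
      have h2 : s ∣ p ^ (b' : ℕ) := by
        rw [← hK', hK]
        exact dvd_pow (dvd_pow_self s hc.ne') (by norm_num)
      exact (Nat.prime_dvd_prime_iff_eq hs hp.out).1 (hs.dvd_of_dvd_pow h2)
    exact ⟨c, hc, by rw [h1]⟩
  have hq1 := hq.one_lt
  have hrp : ¬ r ∣ q₀ := by
    intro h0
    rw [hqb] at h0
    have h1 := hr.dvd_of_dvd_pow h0
    exact hnum.not_dvd_q hr hrm (h1.trans (dvd_pow_self _ a.ne_zero))
  rw [Nat.card_congr e.toEquiv] at hrd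
  -- the degree
  have hdeg : ∃ x, 0 < x ∧ x ≤ 9 ∧ r ∣ q₀ ^ (2 * x) - 1 := by
    have h1 : r ∣ q₀ ^ 36 * (q₀ ^ 2 - 1) * (q₀ ^ 5 + 1) * (q₀ ^ 6 - 1) * (q₀ ^ 8 - 1) * (q₀ ^ 9 + 1) *
        (q₀ ^ 12 - 1) := by
      rw [← S1066.result hq hK]
      exact hrd.mul_left _
    have key : ∀ x : ℕ, q₀ ^ x + 1 ∣ q₀ ^ (2 * x) - 1 := by
      intro x
      have h2 : q₀ ^ (2 * x) - 1 = (q₀ ^ x + 1) * (q₀ ^ x - 1) := by
        rw [two_mul, pow_add]
        obtain ⟨y, hy⟩ : ∃ y, q₀ ^ x = y + 1 := ⟨q₀ ^ x - 1, (Nat.sub_add_cancel (Nat.one_le_pow _ _ (by omega))).symm⟩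
        rw [hy, Nat.add_sub_cancel]
        apply Nat.sub_eq_of_eq_add
        ring
      rw [h2]
      exact Dvd.intro _ rfl
    rcases hr.dvd_mul.1 h1 with h1 | h2
    · rcases hr.dvd_mul.1 h1 with h1 | h2
      · rcases hr.dvd_mul.1 h1 with h1 | h2
        · rcases hr.dvd_mul.1 h1 with h1 | h2
          · rcases hr.dvd_mul.1 h1 with h1 | h2
            · rcases hr.dvd_mul.1 h1 with h1 | h2
              · exact absurd (hr.dvd_of_dvd_pow h1) hrp
              · exact ⟨1, by norm_num, by norm_num, h2⟩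
            · exact ⟨5, by norm_num, by norm_num, h2.trans (key 5)⟩
          · exact ⟨3, by norm_num, by norm_num, h2⟩
        · exact ⟨4, by norm_num, by norm_num, h2⟩
      · exact ⟨9, by norm_num, by norm_num, h2.trans (key 9)⟩
    · exact ⟨6, by norm_num, by norm_num, h2⟩
  obtain ⟨x, hx0, hx9, hrx⟩ := hdeg
  rw [hqb, ← pow_mul, ← mul_assoc] at hrx
  have hb2 : 0 < b * 2 := by omega
  have h1 := k_le hnum hr hrm hp.out hb2 hx0 hrx
  -- the data
  obtain ⟨φ, hφ, hqq⟩ := TwE6Basic.exists_frob hq hK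
  let _ : ∀ i : Fin 4, Fintype (Cfsg.Agent.Nodes.RGDFoldSL.Fx φ ((Nodes.RGDTwNode.E6.rest i).length + 1)) :=
    fun i => Fintype.ofFinite _
  have hch : ∀ i : Fin 4, CharP (Cfsg.Agent.Nodes.RGDFoldSL.Fx φ ((Nodes.RGDTwNode.E6.rest i).length + 1)) p :=
    fun i => (RingHom.charP_iff (Cfsg.Agent.Nodes.RGDFoldSL.Fx φ _).subtype
      (Cfsg.Agent.Nodes.RGDFoldSL.Fx φ _).subtype_injective p).2 inferInstance
  have hN := fun i : Fin 4 =>
    Cfsg.Agent.H59.CrossTw.nd_fold (Nodes.RGDTwE6.foldGrp hφ hqq) (Nodes.RGDTwNode.E6.nodeOK i) (φ := φ)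
      (fun s hs t => by rw [Nodes.RGDTwNode.E6.eps_one i s hs, Int.cast_one, one_mul])
      (Cfsg.Agent.KFacts.MulOdd.InstTw.parityTw_spec Cfsg.Agent.KFacts.MulOdd.InstTw.parity_E6 i).choose_spec.1
      (Cfsg.Agent.KFacts.MulOdd.InstTw.parityTw_spec Cfsg.Agent.KFacts.MulOdd.InstTw.parity_E6 i).choose_spec.2
  have hW : Finite CoxeterMatrix.F₄.Group :=
    Cfsg.Agent.Nodes.RGDFold.finite_W (hp := isType_E6) CoxeterMatrix.F₄.toCoxeterSystem Nodes.RGDTwE6.isCartan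
      Nodes.RGDTwE6.foldData
  have hcard : ∀ i : Fin 4, Fintype.card (Cfsg.Agent.Nodes.RGDFoldSL.Fx φ ((Nodes.RGDTwNode.E6.rest i).length + 1)) =
      p ^ (![b, b, b * 2, b * 2] i) := by
    have e1 : Nat.card (Cfsg.Agent.Nodes.RGDFoldSL.Fx φ 1) = q₀ := by
      have h2 := Cfsg.Agent.H59.CrossTw.card_Fx_one hq1 hK hφ
      have h3 : 0 < Nat.card (Cfsg.Agent.Nodes.RGDFoldSL.Fx φ 1) := Nat.card_pos
      omega
    have e2 := Cfsg.Agent.H59.CrossTw.card_Fx_eq hK hφ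
    intro i
    rw [← Nat.card_eq_fintype_card]
    fin_cases i
    · exact e1.trans hqb
    · exact e1.trans hqb
    · refine e2.trans ?_
      rw [hqb, ← pow_mul]
      rfl
    · refine e2.trans ?_
      rw [hqb, ← pow_mul]
      rfl
  obtain ⟨J, ⟨i, hi⟩, h2, h3⟩ := exists_J h.core
    (Nodes.RGDFold.rgd CoxeterMatrix.F₄.toCoxeterSystem Nodes.RGDTwE6.isCartan Nodes.RGDTwE6.foldData
      (Nodes.RGDTwE6.foldGrp hφ hqq) p)
    (Nodes.RGDFold.G1_eq_top CoxeterMatrix.F₄.toCoxeterSystem Nodes.RGDTwE6.isCartan Nodes.RGDTwE6.foldData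
      (Nodes.RGDTwE6.foldGrp hφ hqq) p)
    (fun s hs t ht' => Subtype.ext (diag_comm isType_E6.inList (Subgroup.mem_subgroupOf.1 hs).1
      (Subgroup.mem_subgroupOf.1 ht').1)) hN e hF' hcard
  rw [Fintype.card_fin] at h2 h3
  have h8 := h.num.nlt
  -- `e_S` and `e_L`
  have hS : 1 ≤ b * 2 / Nat.gcd a (b * 2) :=
    Nat.div_pos (Nat.le_of_dvd hb2 (Nat.gcd_dvd_right _ _)) (Nat.gcd_pos_of_pos_right _ hb2)
  have hL : 1 ≤ b / Nat.gcd a b :=
    Nat.div_pos (Nat.le_of_dvd hb (Nat.gcd_dvd_right _ _)) (Nat.gcd_pos_of_pos_right _ hb)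
  have hSL : b * 2 / Nat.gcd a (b * 2) ≤ 2 * (b / Nat.gcd a b) := div_gcd_le hb
  have g2 := h2 2
  have g3 := h2 3
  have g1 := h2 1
  change 2 ∉ J → _ * 2 ^ (b * 2 / Nat.gcd a (b * 2)) ≤ _ at g2
  change 3 ∉ J → _ * 2 ^ (b * 2 / Nat.gcd a (b * 2)) ≤ _ at g3
  change 1 ∉ J → _ * 2 ^ (b / Nat.gcd a b) ≤ _ at g1
  have g0 := fun h0 : (0 : Fin 4) ∉ J => fun hJ => h3 0 h0 hJ 3 (LF.filter fun v => decide (0 < v 3))
    (LF.filter fun v => decide (v 3 = 0))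
  change ∀ h0 : (0 : Fin 4) ∉ J, _ → _ → _ → _ → _ → _ → _ →
    _ * 2 ^ (b * 2 / Nat.gcd a (b * 2)) + _ ≤ _ at g0
  set S := b * 2 / Nat.gcd a (b * 2) with hSdef
  set T := b / Nat.gcd a b with hTdef
  have h7 : k ≤ 9 * S := h1.trans (Nat.mul_le_mul_right _ hx9)
  have hSp := two_mul_le_two_pow hS
  have hTp := two_mul_le_two_pow hL
  by_cases h20 : (2 : Fin 4) ∈ J
  swap
  · have h9 := g2 h20
    have h10 := Nat.mul_le_mul (index_F4 CoxeterMatrix.F₄.toCoxeterSystem h20) hSp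
    omega
  by_cases h30 : (3 : Fin 4) ∈ J
  swap
  · have h9 := g3 h30
    have h10 := Nat.mul_le_mul (index_F4 CoxeterMatrix.F₄.toCoxeterSystem h30) hSp
    omega
  by_cases h10 : (1 : Fin 4) ∈ J
  swap
  · have h9 := g1 h10
    have h10 := Nat.mul_le_mul (index_F4' CoxeterMatrix.F₄.toCoxeterSystem h10) hTp
    omega
  have h00 : (0 : Fin 4) ∉ J := by
    intro h0
    apply hi
    fin_cases i
    · exact h0
    · exact h10
    · exact h20
    · exact h30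
  obtain ⟨o1, o2⟩ := exists_of_chn CoxeterMatrix.F₄.toCoxeterSystem Nodes.RGDTwE6.isCartan chn_LF
  have h9 := g0 h00 (by
      intro i hi
      fin_cases i
      · rfl
      · exact absurd h10 hi
      · exact absurd h20 hi
      · exact absurd h30 hi)
    (fun v hv => of_decide_eq_true (List.mem_filter.1 hv).2)
    (fun v hv => of_decide_eq_true (List.mem_filter.1 hv).2)
    (o2.filter _) (o2.filter _) (fun v hv => o1 v (List.mem_filter.1 hv).1) (fun v hv => o1 v (List.mem_filter.1 hv).1)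
  rw [LF_pos, LF_zero] at h9
  -- `6 * 2 ^ S + 12 ≥ 18 S`
  have h11 : 18 * S ≤ 6 * 2 ^ S + 12 := by
    rcases Nat.lt_or_ge S 2 with h12 | h12
    · have h13 : S = 1 := by omega
      rw [h13]
      norm_num
    · have h14 := three_mul_le h12
      omega
  omega

end rows

end Cfsg.Agent.H2.Ppd.Om0
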